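import Cfsg.Agent.OddHalf.D3.Basic
import Mathlib
import Cfsg.Agent.OddHalf.D5.SymEnd
import Cfsg.Agent.OddHalf.D5.Sym.Match

-- merged: Cfsg.Agent.OddHalf.D5.SymLab.Good
section

/-!
# ODD D5, `C_G(t) = ⟨t⟩ × S_n`: components of `C(e)`, `e` a transposition

`Fr t j`: `C_G(t) = ⟨t⟩ × j(Sym Ω)`. `Good t j s e J`: `J` is a component of `C(s)`, moved by `t`, and
`{x x^t : x ∈ J} = j (Alt (Ω - e))`, no element of order three in the centre of `J`.
-/

set_option autoImplicit false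
set_option linter.unusedSectionVars false

namespace Cfsg.Agent.OddHalf.D5.SymLab

open Subgroup Equiv Cfsg Cfsg.Agent.OddHalf.D3

variable {G : Type*} [Group G] {α : Type*} [Fintype α] [DecidableEq α]

/-- `C_G(t) = ⟨t⟩ × j(Sym α)`. -/
structure Fr (t : G) (j : Perm α →* G) : Prop where
  tt : t * t = 1
  inj : Function.Injective j
  comm : ∀ a, t * j a = j a * t
  cent : ∀ g, g * t = t * g → ∃ a, g = j a ∨ g = t * j a
  ne : ∀ a, j a ≠ t

theorem Fr.t_inv {t : G} {j : Perm α →* G} (F : Fr t j) : t⁻¹ = t := inv_eq_of_mul_eq_one_left F.tt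

theorem Fr.ttx {t : G} {j : Perm α →* G} (F : Fr t j) (x : G) : t * (t * x * t⁻¹) * t⁻¹ = x := by
  have : t * (t * x * t⁻¹) * t⁻¹ = (t * t) * x * (t * t)⁻¹ := by group
  rw [this, F.tt]; simp

theorem Fr.conj_t {t : G} {j : Perm α →* G} (F : Fr t j) (a : Perm α) : t * j a * t⁻¹ = j a := by
  rw [F.comm]; group

theorem Fr.cj_cj {t : G} {j : Perm α →* G} (F : Fr t j) (J : Subgroup G) : cj t (cj t J) = J := by
  rw [D3.cj_cj, F.tt, cj_one]

/-- the components of `C(s)` over `j (Alt (Ω - e))` in the double case -/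
structure Good (t : G) (j : Perm α →* G) (s : G) (e : Perm α) (J : Subgroup G) : Prop where
  comp : Comp s J
  ne : cj t J ≠ J
  mem : ∀ d ∈ J, ∃ a, Perm.sign a = 1 ∧ Perm.Disjoint a e ∧ d * (t * d * t⁻¹) = j a
  ex : ∀ a, Perm.sign a = 1 → Perm.Disjoint a e → ∃ d ∈ J, d * (t * d * t⁻¹) = j a
  z3 : ∀ z ∈ J, (∀ y ∈ J, z * y = y * z) → z ^ 3 = 1 → z = 1

namespace Good

variable {t s : G} {j : Perm α →* G} {e : Perm α} {J : Subgroup G}

theorem comp' (h : Good t j s e J) (hs : t * s = s * t) : Comp s (cj t J) := h.comp.conj_of_comm hs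

theorem comm' (h : Good t j s e J) (hs : t * s = s * t) : J ≤ centralizer ((cj t J : Subgroup G) : Set G) :=
  h.comp.comm (h.comp' hs) h.ne.symm

theorem comm (h : Good t j s e J) (hs : t * s = s * t) {x y : G} (hx : x ∈ J) (hy : y ∈ J) :
    x * (t * y * t⁻¹) = (t * y * t⁻¹) * x :=
  comm_elt (h.comm' hs) hx (conj_mem_cj hy)

theorem s_comm (h : Good t j s e J) {x : G} (hx : x ∈ J) : x * s = s * x := mem_cs.1 (h.comp.le hx)

/-- `x ↦ x x^t` as a homomorphism -/
def pr (h : Good t j s e J) (hs : t * s = s * t) : J →* G where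
  toFun x := x * (t * x * t⁻¹)
  map_one' := by simp
  map_mul' := by
    rintro ⟨x, hx⟩ ⟨y, hy⟩
    show x * y * (t * (x * y) * t⁻¹) = x * (t * x * t⁻¹) * (y * (t * y * t⁻¹))
    have e1 := h.comm hs hy hx
    calc x * y * (t * (x * y) * t⁻¹) = x * (y * (t * x * t⁻¹)) * (t * y * t⁻¹) := by group
      _ = x * (t * x * t⁻¹) * (y * (t * y * t⁻¹)) := by rw [e1]; group

theorem pr_apply (h : Good t j s e J) (hs : t * s = s * t) (x : J) :
    h.pr hs x = (x : G) * (t * x * t⁻¹) := rfl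

/-- the kernel is central -/
theorem central (h : Good t j s e J) (hs : t * s = s * t) {z : G} (hz : z ∈ J)
    (hz1 : z * (t * z * t⁻¹) = 1) {y : G} (hy : y ∈ J) : z * y = y * z := by
  have h1 : t * z * t⁻¹ = z⁻¹ := (inv_eq_of_mul_eq_one_right hz1).symm
  have h2 := h.comm hs hy hz
  rw [h1] at h2
  have h3 : y * z⁻¹ = z⁻¹ * y := h2
  calc z * y = z * (y * z⁻¹) * z := by group
    _ = y * z := by rw [h3]; group

theorem symm (F : Fr t j) (h : Good t j s e J) (hs : t * s = s * t) : Good t j s e (cj t J) where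
  comp := h.comp' hs
  ne := by
    intro h1
    rw [F.cj_cj] at h1
    exact h.ne h1.symm
  mem := by
    intro d hd
    obtain ⟨x, hx, rfl⟩ := hd
    have hx' : x ∈ J := hx
    obtain ⟨a, h1, h2, h3⟩ := h.mem x hx'
    refine ⟨a, h1, h2, ?_⟩
    show t * x * t⁻¹ * (t * (t * x * t⁻¹) * t⁻¹) = j a
    rw [F.ttx, ← h.comm hs hx' hx', h3]
  ex := by
    intro a h1 h2
    obtain ⟨x, hx, hx1⟩ := h.ex a h1 h2
    refine ⟨t * x * t⁻¹, conj_mem_cj hx, ?_⟩
    rw [F.ttx, ← h.comm hs hx hx, hx1]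
  z3 := by
    intro z hz hzc hz3
    obtain ⟨x, hx, rfl⟩ := hz
    have hx' : x ∈ J := hx
    have e1 : (MulAut.conj t).toMonoidHom x = t * x * t⁻¹ := rfl
    have h1 : x = 1 := by
      apply h.z3 x hx'
      · intro y hy
        have h2 := hzc (t * y * t⁻¹) (conj_mem_cj hy)
        rw [e1] at h2
        calc x * y = t⁻¹ * ((t * x * t⁻¹) * (t * y * t⁻¹)) * t := by group
          _ = y * x := by rw [h2]; group
      · rw [← map_pow] at hz3
        exact (MulAut.conj t).injective (by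
          show (MulAut.conj t).toMonoidHom (x ^ 3) = (MulAut.conj t).toMonoidHom 1
          rw [hz3, map_one])
    rw [h1, map_one]

/-- conjugation by `j c` -/
theorem conj (F : Fr t j) (h : Good t j s e J) (c : Perm α) :
    Good t j (j c * s * (j c)⁻¹) (c * e * c⁻¹) (cj (j c) J) where
  comp := h.comp.conj (j c)
  ne := by
    intro h1
    apply h.ne
    apply cj_injective (j c)
    rw [D3.cj_cj, ← F.comm, ← D3.cj_cj]
    exact h1
  mem := by
    intro d hd
    obtain ⟨x, hx, rfl⟩ := hd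
    obtain ⟨a, h1, h2, h3⟩ := h.mem x hx
    refine ⟨c * a * c⁻¹, ?_, ?_, ?_⟩
    · rw [Perm.sign_mul, Perm.sign_mul, Perm.sign_inv, h1, mul_one, Int.units_mul_self]
    · exact h2.conj c
    · show j c * x * (j c)⁻¹ * (t * (j c * x * (j c)⁻¹) * t⁻¹) = _
      have e1 : t * (j c * x * (j c)⁻¹) * t⁻¹ = j c * (t * x * t⁻¹) * (j c)⁻¹ := by
        calc t * (j c * x * (j c)⁻¹) * t⁻¹ = (t * j c) * x * (t * j c)⁻¹ := by group
          _ = j c * (t * x * t⁻¹) * (j c)⁻¹ := by rw [F.comm]; group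
      rw [e1, map_mul, map_mul, map_inv, ← h3]; group
  ex := by
    intro a h1 h2
    obtain ⟨x, hx, hx1⟩ := h.ex (c⁻¹ * a * c) (by
      rw [Perm.sign_mul, Perm.sign_mul, Perm.sign_inv, h1, mul_one, Int.units_mul_self]) (by
      have h3 := h2.conj c⁻¹
      have e1 : c⁻¹ * (c * e * c⁻¹) * c⁻¹⁻¹ = e := by group
      rw [e1, inv_inv] at h3
      exact h3)
    refine ⟨j c * x * (j c)⁻¹, conj_mem_cj hx, ?_⟩
    have e1 : t * (j c * x * (j c)⁻¹) * t⁻¹ = j c * (t * x * t⁻¹) * (j c)⁻¹ := by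
      calc t * (j c * x * (j c)⁻¹) * t⁻¹ = (t * j c) * x * (t * j c)⁻¹ := by group
        _ = j c * (t * x * t⁻¹) * (j c)⁻¹ := by rw [F.comm]; group
    calc j c * x * (j c)⁻¹ * (t * (j c * x * (j c)⁻¹) * t⁻¹)
        = j c * (x * (t * x * t⁻¹)) * (j c)⁻¹ := by rw [e1]; group
      _ = j a := by
          rw [hx1, map_mul, map_mul, map_inv]; group
  z3 := by
    intro z hz hzc hz3
    obtain ⟨x, hx, rfl⟩ := hz
    have e1 : (MulAut.conj (j c)).toMonoidHom x = j c * x * (j c)⁻¹ := rfl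
    have h1 : x = 1 := by
      apply h.z3 x hx
      · intro y hy
        have h2 := hzc (j c * y * (j c)⁻¹) (conj_mem_cj hy)
        rw [e1] at h2
        calc x * y = (j c)⁻¹ * ((j c * x * (j c)⁻¹) * (j c * y * (j c)⁻¹)) * j c := by group
          _ = y * x := by rw [h2]; group
      · rw [← map_pow] at hz3
        exact (MulAut.conj (j c)).injective (by
          show (MulAut.conj (j c)).toMonoidHom (x ^ 3) = (MulAut.conj (j c)).toMonoidHom 1
          rw [hz3, map_one])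
    rw [h1, map_one]

/-- `j (Alt (Ω - e))` is not abelian. -/
def NonAb (e : Perm α) : Prop :=
  ∃ a b, Perm.sign a = 1 ∧ Perm.sign b = 1 ∧ Perm.Disjoint a e ∧ Perm.Disjoint b e ∧ a * b ≠ b * a

/-- `J` is unique up to `t` -/
theorem uniq (F : Fr t j) (hs : t * s = s * t) (hn : NonAb e) {J' : Subgroup G} (h : Good t j s e J)
    (h' : Good t j s e J') : J' = J ∨ J' = cj t J := by
  by_contra hcon
  push Not at hcon
  obtain ⟨h1, h2⟩ := hcon
  obtain ⟨a, b, ha, hb, hae, hbe, hab⟩ := hn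
  apply hab
  apply F.inj
  rw [map_mul, map_mul]
  obtain ⟨x, hx, hxa⟩ := h.ex a ha hae
  obtain ⟨y, hy, hyb⟩ := h'.ex b hb hbe
  have c1 := h'.comp.comm h.comp h1
  have c2 := h'.comp.comm (h.comp' hs) h2
  have d1 : y * j a = j a * y := by
    have e1 : y * x = x * y := comm_elt c1 hy hx
    have e2 : y * (t * x * t⁻¹) = (t * x * t⁻¹) * y := comm_elt c2 hy (conj_mem_cj hx)
    rw [← hxa, ← mul_assoc, e1, mul_assoc, e2, ← mul_assoc]
  have d2 : (t * y * t⁻¹) * j a = j a * (t * y * t⁻¹) := by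
    have e1 : t⁻¹ * j a = j a * t⁻¹ := by rw [F.t_inv, F.comm]
    calc (t * y * t⁻¹) * j a = t * y * (t⁻¹ * j a) := by group
      _ = t * (y * j a) * t⁻¹ := by rw [e1]; group
      _ = (t * j a) * y * t⁻¹ := by rw [d1]; group
      _ = _ := by rw [F.comm]; group
  rw [← hyb, ← mul_assoc, ← d1, mul_assoc, ← d2, ← mul_assoc]

/-! ### Lifts of order three -/

/-- `x` is the lift of order three of `a` -/
structure Lift (t : G) (j : Perm α →* G) (J : Subgroup G) (a : Perm α) (x : G) : Prop where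
  mem : x ∈ J
  cube : x ^ 3 = 1
  eq : x * (t * x * t⁻¹) = j a

theorem lift_unique (h : Good t j s e J) (hs : t * s = s * t) {a : Perm α} {x y : G}
    (hx : Lift t j J a x) (hy : Lift t j J a y) : x = y := by
  set X : J := ⟨x, hx.mem⟩ with hX
  set Y : J := ⟨y, hy.mem⟩ with hY
  have h1 : h.pr hs (X⁻¹ * Y) = 1 := by
    rw [map_mul, map_inv, pr_apply, pr_apply]
    show (x * (t * x * t⁻¹))⁻¹ * (y * (t * y * t⁻¹)) = 1
    rw [hx.eq, hy.eq, inv_mul_cancel]
  have h2 : ∀ u ∈ J, (x⁻¹ * y) * u = u * (x⁻¹ * y) := fun u hu =>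
    h.central hs (J.mul_mem (J.inv_mem hx.mem) hy.mem) h1 hu
  have h3 : (x⁻¹ * y) ^ 3 = 1 := by
    have e1 : Commute x (x⁻¹ * y) := (h2 x hx.mem).symm
    have e2 : y = x * (x⁻¹ * y) := by group
    have e3 : y ^ 3 = x ^ 3 * (x⁻¹ * y) ^ 3 := by
      conv_lhs => rw [e2]
      exact e1.mul_pow 3
    rw [hx.cube, hy.cube, one_mul] at e3
    exact e3.symm
  have h4 := h.z3 _ (J.mul_mem (J.inv_mem hx.mem) hy.mem) h2 h3
  exact inv_mul_eq_one.1 h4

theorem exists_lift [Finite G] (h : Good t j s e J) (hs : t * s = s * t) {a : Perm α}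
    (ha : Perm.sign a = 1) (hae : Perm.Disjoint a e) (ha3 : a ^ 3 = 1) : ∃ x, Lift t j J a x := by
  obtain ⟨d, hd, hda⟩ := h.ex a ha hae
  set D : J := ⟨d, hd⟩ with hD
  have hpr : h.pr hs D = j a := hda
  have h1 : h.pr hs (D ^ 3) = 1 := by rw [map_pow, hpr, ← map_pow, ha3, map_one]
  have hz : ∀ u ∈ J, (d ^ 3) * u = u * (d ^ 3) := fun u hu => h.central hs (J.pow_mem hd 3) h1 hu
  set m := orderOf (d ^ 3) with hm
  have hm0 : 0 < m := orderOf_pos _
  have h3m : ¬ 3 ∣ m := by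
    rintro ⟨k, hk⟩
    have hk0 : 0 < k := by omega
    have h4 : (d ^ 3) ^ k = 1 := by
      apply h.z3 _ (J.pow_mem (J.pow_mem hd 3) k)
      · intro u hu
        have : Commute (d ^ 3) u := hz u hu
        exact (this.pow_left k).eq
      · rw [← pow_mul, mul_comm k 3, ← hk, hm]
        exact pow_orderOf_eq_one _
    have h5 := orderOf_dvd_of_pow_eq_one h4
    rw [← hm, hk] at h5
    have := Nat.le_of_dvd hk0 h5
    omega
  have hco : Nat.Coprime 3 m := (Nat.Prime.coprime_iff_not_dvd Nat.prime_three).2 h3m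
  obtain ⟨r, hr1, hr2⟩ := Nat.chineseRemainder hco 1 0
  refine ⟨d ^ r, J.pow_mem hd r, ?_, ?_⟩
  · rw [← pow_mul, mul_comm, pow_mul]
    exact orderOf_dvd_iff_pow_eq_one.1 (by rw [← hm]; exact (Nat.modEq_zero_iff_dvd).1 hr2)
  · have h6 : h.pr hs (D ^ r) = j a := by
      rw [map_pow, hpr, ← map_pow]
      congr 1
      have : orderOf a ∣ 3 := orderOf_dvd_of_pow_eq_one ha3
      have h7 : r ≡ 1 [MOD orderOf a] := hr1.of_dvd this
      have h8 := pow_eq_pow_iff_modEq.2 h7
      rw [h8, pow_one]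
    exact h6

end Good

/-- transport of lifts -/
theorem Good.Lift.conj {t : G} {j : Perm α →* G} {J : Subgroup G} (F : Fr t j) {a : Perm α} {x : G}
    (h : Good.Lift t j J a x) (c : Perm α) :
    Good.Lift t j (cj (j c) J) (c * a * c⁻¹) (j c * x * (j c)⁻¹) where
  mem := conj_mem_cj h.mem
  cube := by rw [conj_pow, h.cube]; group
  eq := by
    have e1 : t * (j c * x * (j c)⁻¹) * t⁻¹ = j c * (t * x * t⁻¹) * (j c)⁻¹ := by
      calc t * (j c * x * (j c)⁻¹) * t⁻¹ = (t * j c) * x * (t * j c)⁻¹ := by group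
        _ = j c * (t * x * t⁻¹) * (j c)⁻¹ := by rw [F.comm]; group
    rw [e1, map_mul, map_mul, map_inv, ← h.eq]; group

theorem Good.Lift.tconj {t s : G} {j : Perm α →* G} {e : Perm α} {J : Subgroup G} (F : Fr t j)
    (hJ : Good t j s e J) (hs : t * s = s * t) {a : Perm α} {x : G}
    (h : Good.Lift t j J a x) : Good.Lift t j (cj t J) a (t * x * t⁻¹) where
  mem := conj_mem_cj h.mem
  cube := by rw [conj_pow, h.cube]; group
  eq := by rw [F.ttx, ← hJ.comm hs h.mem h.mem, h.eq]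

end Cfsg.Agent.OddHalf.D5.SymLab

end

-- merged: Cfsg.Agent.OddHalf.D5.SymLab.Inner
section

/-!
# ODD D5, `C_G(t) = ⟨t⟩ × S_n`: perfect subgroups `X` with `[X, X^t] = 1`, `x x^t ∈ j (Alt (Ω - f))`

`X ≤ C(s)` normalises the components of `C(s)` and acts on `J` by inner automorphisms (`Good t j s f J`).
-/

set_option autoImplicit false
set_option linter.unusedSectionVars false

namespace Cfsg.Agent.OddHalf.D5.SymLab

open Subgroup Equiv Cfsg Cfsg.Agent.OddHalf.D3
open scoped commutatorElement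

variable {G : Type*} [Group G] {α : Type*} [Fintype α] [DecidableEq α]

/-- the elements acting on `J` as inner automorphisms -/
def innS (J : Subgroup G) : Subgroup G where
  carrier := {g | ∃ b ∈ J, ∀ y ∈ J, g * y * g⁻¹ = b * y * b⁻¹}
  one_mem' := ⟨1, J.one_mem, fun _ _ => rfl⟩
  mul_mem' := by
    rintro g h ⟨b, hb, hg⟩ ⟨c, hc, hh⟩
    refine ⟨b * c, J.mul_mem hb hc, fun y hy => ?_⟩
    calc g * h * y * (g * h)⁻¹ = g * (h * y * h⁻¹) * g⁻¹ := by group
      _ = b * (c * y * c⁻¹) * b⁻¹ := by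
          rw [hh y hy, hg _ (J.mul_mem (J.mul_mem hc hy) (J.inv_mem hc))]
      _ = b * c * y * (b * c)⁻¹ := by group
  inv_mem' := by
    rintro g ⟨b, hb, hg⟩
    refine ⟨b⁻¹, J.inv_mem hb, fun y hy => ?_⟩
    have h1 := hg (b⁻¹ * y * b) (J.mul_mem (J.mul_mem (J.inv_mem hb) hy) hb)
    have h2 : b * (b⁻¹ * y * b) * b⁻¹ = y := by group
    rw [h2] at h1
    calc g⁻¹ * y * g⁻¹⁻¹ = g⁻¹ * (g * (b⁻¹ * y * b) * g⁻¹) * g := by rw [h1]; group
      _ = b⁻¹ * y * b⁻¹⁻¹ := by group

theorem mem_innS {J : Subgroup G} {g : G} : g ∈ innS J ↔ ∃ b ∈ J, ∀ y ∈ J, g * y * g⁻¹ = b * y * b⁻¹ :=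
  Iff.rfl

theorem innS_conj {J : Subgroup G} {g x : G} (hg : g ∈ innS J) (hx : cj x J = J) :
    x * g * x⁻¹ ∈ innS J := by
  obtain ⟨b, hb, h⟩ := hg
  have h1 : ∀ u ∈ J, x * u * x⁻¹ ∈ J := fun u hu => by
    have := conj_mem_cj (g := x) hu
    rwa [hx] at this
  have h2 : ∀ u ∈ J, x⁻¹ * u * x ∈ J := fun u hu => by
    rw [← mem_cj, hx]; exact hu
  refine ⟨x * b * x⁻¹, h1 b hb, fun y hy => ?_⟩
  calc x * g * x⁻¹ * y * (x * g * x⁻¹)⁻¹ = x * (g * (x⁻¹ * y * x) * g⁻¹) * x⁻¹ := by group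
    _ = x * (b * (x⁻¹ * y * x) * b⁻¹) * x⁻¹ := by rw [h _ (h2 y hy)]
    _ = _ := by group

variable {t s : G} {j : Perm α →* G} {f : Perm α} {J X : Subgroup G}

/-- hypotheses on `X` -/
structure Per (t : G) (j : Perm α →* G) (s : G) (f : Perm α) (X : Subgroup G) : Prop where
  s : ∀ x ∈ X, x * s = s * x
  comm : ∀ x ∈ X, ∀ y ∈ X, x * (t * y * t⁻¹) = (t * y * t⁻¹) * x
  pr : ∀ x ∈ X, ∃ a, Perm.sign a = 1 ∧ Perm.Disjoint a f ∧ x * (t * x * t⁻¹) = j a
  perf : ⁅X, X⁆ = X

/-- the subgroup of `C(s)` normalising the components -/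
def norS (s : G) : Subgroup G where
  carrier := {g | g * s = s * g ∧ ∀ L, Comp s L → cj g L = L}
  one_mem' := ⟨by rw [one_mul, mul_one], fun L _ => cj_one L⟩
  mul_mem' := by
    rintro g h ⟨h1, h2⟩ ⟨h3, h4⟩
    refine ⟨by rw [mul_assoc, h3, ← mul_assoc, h1, mul_assoc], fun L hL => ?_⟩
    rw [← cj_cj, h4 L hL, h2 L hL]
  inv_mem' := by
    rintro g ⟨h1, h2⟩
    refine ⟨by rw [inv_mul_eq_iff_eq_mul, ← mul_assoc, h1, mul_inv_cancel_right], fun L hL => ?_⟩
    conv_lhs => rw [← h2 L hL]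
    exact cj_inv_cj g L

theorem Good.cj_comp (h : Good t j s f J) (hs : t * s = s * t) {a : Perm α} (ha : Perm.sign a = 1)
    (haf : Perm.Disjoint a f) {L : Subgroup G} (hL : Comp s L) : cj (j a) L = L := by
  obtain ⟨d, hd, hda⟩ := h.ex a ha haf
  rw [← hda, ← cj_cj]
  have key : ∀ {M : Subgroup G}, Comp s M → ∀ u ∈ M, cj u L = L := by
    intro M hM u hu
    by_cases hML : M = L
    · rw [← hML]; exact cj_eq_of_mem hu
    · exact cj_eq_of_mem_centralizer (hM.comm hL hML hu)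
  rw [key (h.comp' hs) _ (conj_mem_cj hd), key h.comp d hd]

/-- if `j (Alt (Ω - f))` lies in a component of `C(s)`, it normalises all of them -/
theorem cj_of_le {D : Subgroup G} (hD : Comp s D)
    (hle : ∀ a, Perm.sign a = 1 → Perm.Disjoint a f → j a ∈ D) {a : Perm α} (ha : Perm.sign a = 1)
    (haf : Perm.Disjoint a f) {L : Subgroup G} (hL : Comp s L) : cj (j a) L = L := by
  have h1 := hle a ha haf
  by_cases hML : D = L
  · rw [← hML]; exact cj_eq_of_mem h1
  · exact cj_eq_of_mem_centralizer (hD.comm hL hML h1)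

theorem Per.norS_le' (h : ∀ a, Perm.sign a = 1 → Perm.Disjoint a f → ∀ L, Comp s L → cj (j a) L = L)
    (P : Per t j s f X) : X ≤ norS s := by
  have hA : ∀ x ∈ X, ∀ L, Comp s L → cj (t * x * t⁻¹) L = cj x⁻¹ L := by
    intro x hx L hL
    obtain ⟨a, ha, haf, h1⟩ := P.pr x hx
    have h2 := h a ha haf L hL
    rw [← h1, ← cj_cj] at h2
    calc cj (t * x * t⁻¹) L = cj x⁻¹ (cj x (cj (t * x * t⁻¹) L)) := (cj_inv_cj _ _).symm
      _ = cj x⁻¹ L := by rw [h2]
  have hB : ∀ x ∈ X, ∀ y ∈ X, ∀ L, Comp s L → cj (x * y) L = cj (y * x) L := by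
    intro x hx y hy L hL
    have h1 := P.comm x hx y⁻¹ (X.inv_mem hy)
    have h2 := hA y⁻¹ (X.inv_mem hy) L hL
    have h3 := hA y⁻¹ (X.inv_mem hy) (cj x L) (hL.conj_of_comm (P.s x hx))
    rw [inv_inv] at h2 h3
    calc cj (x * y) L = cj x (cj y L) := (cj_cj _ _ _).symm
      _ = cj (x * (t * y⁻¹ * t⁻¹)) L := by rw [← h2, cj_cj]
      _ = cj (t * y⁻¹ * t⁻¹) (cj x L) := by rw [h1, cj_cj]
      _ = cj (y * x) L := by rw [h3, cj_cj]
  have hC : ⁅X, X⁆ ≤ norS s := by
    rw [commutator_le]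
    intro x hx y hy
    refine ⟨?_, fun L hL => ?_⟩
    · have c1 : Commute x s := P.s x hx
      have c2 : Commute y s := P.s y hy
      exact (((c1.mul_left c2).mul_left c1.inv_left).mul_left c2.inv_left).eq
    · have hcm : (y * x) * s = s * (y * x) := by
        have c1 : Commute x s := P.s x hx
        have c2 : Commute y s := P.s y hy
        exact (c2.mul_left c1).eq
      have hL' : Comp s (cj (y * x)⁻¹ L) := by
        apply hL.conj_of_comm
        rw [inv_mul_eq_iff_eq_mul, ← mul_assoc, hcm, mul_inv_cancel_right]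
      have h1 := hB x hx y hy _ hL'
      rw [cj_cj_inv] at h1
      have e : ⁅x, y⁆ = (x * y) * (y * x)⁻¹ := by rw [commutatorElement_def]; group
      rw [e, ← cj_cj, h1]
  rw [P.perf] at hC
  exact hC

theorem Per.norS_le (h : Good t j s f J) (hs : t * s = s * t) (P : Per t j s f X) : X ≤ norS s :=
  P.norS_le' (fun _ ha haf _ hL => h.cj_comp hs ha haf hL)

theorem Per.innS_le (h : Good t j s f J) (hs : t * s = s * t) (P : Per t j s f X) : X ≤ innS J := by
  have hN : ∀ x ∈ X, cj x J = J := fun x hx => (P.norS_le h hs hx).2 J h.comp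
  have hA : ∀ a, Perm.sign a = 1 → Perm.Disjoint a f → j a ∈ innS J := by
    intro a ha haf
    obtain ⟨d, hd, hda⟩ := h.ex a ha haf
    refine ⟨d, hd, fun y hy => ?_⟩
    have e1 := h.comm hs hy hd
    calc j a * y * (j a)⁻¹ = d * ((t * d * t⁻¹) * y) * (t * d * t⁻¹)⁻¹ * d⁻¹ := by rw [← hda]; group
      _ = d * (y * (t * d * t⁻¹)) * (t * d * t⁻¹)⁻¹ * d⁻¹ := by rw [e1]
      _ = d * y * d⁻¹ := by group
  have hC : ⁅X, X⁆ ≤ innS J := by
    rw [commutator_le]
    intro x hx y hy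
    obtain ⟨a, ha, haf, h1⟩ := P.pr y⁻¹ (X.inv_mem hy)
    have h2 := P.comm x hx y⁻¹ (X.inv_mem hy)
    -- `y⁻¹ y'⁻¹ = j a`, `x` commutes with `y'⁻¹`
    have h3 : t * y⁻¹ * t⁻¹ = y * j a := by rw [← h1]; group
    rw [h3] at h2
    have h4 : ⁅x, y⁆ = y * (j a * (x * (j a)⁻¹ * x⁻¹)) * y⁻¹ := by
      rw [commutatorElement_def]
      calc x * y * x⁻¹ * y⁻¹ = (x * (y * j a)) * (j a)⁻¹ * x⁻¹ * y⁻¹ := by group
        _ = y * (j a * (x * (j a)⁻¹ * x⁻¹)) * y⁻¹ := by rw [h2]; group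
    rw [h4]
    apply innS_conj _ (hN y hy)
    exact mul_mem (hA a ha haf) (innS_conj (inv_mem (hA a ha haf)) (hN x hx))
  rw [P.perf] at hC
  exact hC

end Cfsg.Agent.OddHalf.D5.SymLab

end

-- merged: Cfsg.Agent.OddHalf.D5.SymLab.PermAux
section

/-!
# Permutations through an embedding `Fin m ↪ α`
-/

set_option autoImplicit false
set_option linter.unusedSectionVars false

namespace Cfsg.Agent.OddHalf.D5.SymLab

open Equiv Equiv.Perm

variable {α : Type*} [Fintype α] [DecidableEq α] {m : ℕ}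

/-- the permutations of `Fin m` on `α` -/
noncomputable def Em (q : Fin m ↪ α) : Perm (Fin m) →* Perm α := Perm.viaEmbeddingHom q

theorem Em_app (q : Fin m ↪ α) (u : Perm (Fin m)) (i : Fin m) : Em q u (q i) = q (u i) :=
  Perm.viaEmbedding_apply u q i

theorem Em_out (q : Fin m ↪ α) (u : Perm (Fin m)) {x : α} (h : ∀ i, x ≠ q i) : Em q u x = x :=
  Perm.viaEmbedding_apply_of_notMem u q x (by rintro ⟨i, hi⟩; exact h i hi.symm)

theorem Em_inj (q : Fin m ↪ α) : Function.Injective (Em q) := Perm.viaEmbeddingHom_injective q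

theorem Em_swap (q : Fin m ↪ α) (i k : Fin m) : Em q (swap i k) = swap (q i) (q k) := by
  ext x
  by_cases h : ∃ l, x = q l
  · obtain ⟨l, rfl⟩ := h
    rw [Em_app]
    by_cases h1 : l = i
    · rw [h1, swap_apply_left, swap_apply_left]
    · by_cases h2 : l = k
      · rw [h2, swap_apply_right, swap_apply_right]
      · rw [swap_apply_of_ne_of_ne h1 h2,
          swap_apply_of_ne_of_ne (q.injective.ne h1) (q.injective.ne h2)]
  · push Not at h
    rw [Em_out q _ h, swap_apply_of_ne_of_ne (h i) (h k)]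

theorem sign_Em (q : Fin m ↪ α) (u : Perm (Fin m)) : Perm.sign (Em q u) = Perm.sign u := by
  let _ : DecidablePred (fun x => x ∈ Set.range q) := fun _ => Classical.propDecidable _
  have h2 := Perm.sign_extendDomain u (Equiv.ofInjective q q.injective)
  rw [← h2]
  rfl

theorem disj_Em (q : Fin m ↪ α) {u v : Perm (Fin m)} (h : Perm.Disjoint u v) :
    Perm.Disjoint (Em q u) (Em q v) := by
  intro x
  by_cases hx : ∃ l, x = q l
  · obtain ⟨l, rfl⟩ := hx
    rw [Em_app, Em_app]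
    rcases h l with h | h
    · left; rw [h]
    · right; rw [h]
  · push Not at hx
    left; exact Em_out q _ hx

/-- `x ↦ z ↦ y ↦ x` -/
def c3 (x y z : α) : Perm α := swap x y * swap x z

theorem Em_c3 (q : Fin m ↪ α) (i k l : Fin m) : Em q (c3 i k l) = c3 (q i) (q k) (q l) := by
  unfold c3; rw [map_mul, Em_swap, Em_swap]

theorem sign_c3 {x y z : α} (h1 : x ≠ y) (h2 : x ≠ z) : Perm.sign (c3 x y z) = 1 := by
  unfold c3; rw [Perm.sign_mul, sign_swap h1, sign_swap h2]; decide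

/-- one more letter -/
theorem exists_snoc {k : ℕ} (p : Fin k ↪ α) (h : k < Fintype.card α) :
    ∃ q : Fin (k + 1) ↪ α, ∀ i : Fin k, q i.castSucc = p i := by
  have h1 : ∃ x, x ∉ Finset.univ.map p := by
    by_contra hcon
    push Not at hcon
    have h2 : Finset.univ.map p = (Finset.univ : Finset α) := Finset.eq_univ_iff_forall.2 hcon
    have h3 := congrArg Finset.card h2
    rw [Finset.card_map, Finset.card_univ, Finset.card_univ, Fintype.card_fin] at h3
    omega
  obtain ⟨x, hx⟩ := h1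
  have hx' : x ∉ Set.range p := by
    rintro ⟨i, rfl⟩
    exact hx (Finset.mem_map_of_mem _ (Finset.mem_univ _))
  refine ⟨⟨Fin.snoc (α := fun _ => α) p x, Fin.snoc_injective_of_injective p.injective hx'⟩, fun i => ?_⟩
  exact Fin.snoc_castSucc (α := fun _ => α) x p i

/-- extension of an embedding -/
theorem exists_ext {k : ℕ} (p : Fin k ↪ α) {l : ℕ} (hk : k ≤ l) (h : l ≤ Fintype.card α) :
    ∃ q : Fin l ↪ α, ∀ i : Fin k, q (Fin.castLE hk i) = p i := by
  induction l, hk using Nat.le_induction with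
  | base => exact ⟨p, fun i => rfl⟩
  | succ l hl ih =>
    obtain ⟨q, hq⟩ := ih (by omega)
    obtain ⟨q', hq'⟩ := exists_snoc q (by omega)
    refine ⟨q', fun i => ?_⟩
    rw [← hq i, ← hq']
    rfl

/-- a new letter -/
theorem exists_new (s : Finset α) (h : s.card < Fintype.card α) : ∃ x, x ∉ s := by
  by_contra hcon
  push Not at hcon
  have h2 : s = (Finset.univ : Finset α) := Finset.eq_univ_iff_forall.2 hcon
  rw [h2, Finset.card_univ] at h
  exact lt_irrefl _ h

theorem apply_of_disj {a f : Perm α} (h : Perm.Disjoint a f) {x : α} (hx : f x ≠ x) : a x = x :=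
  (h x).resolve_right hx

/-- an element commuting with the even permutations outside of the transposition `f` fixes the letters outside -/
theorem fix_out (h6 : 6 ≤ Fintype.card α) {f a : Perm α} (hf : f.IsSwap)
    (ha : ∀ b, Perm.sign b = 1 → Perm.Disjoint b f → a * b = b * a) {x : α} (hx : f x = x) : a x = x := by
  by_contra hne
  obtain ⟨p, r, hpr, rfl⟩ := hf
  obtain ⟨z, hz⟩ := exists_new {p, r, x, a x} (by
    have : ({p, r, x, a x} : Finset α).card ≤ 4 := Finset.card_le_four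
    omega)
  obtain ⟨w, hw⟩ := exists_new {p, r, x, a x, z} (by
    have : ({p, r, x, a x, z} : Finset α).card ≤ 5 := Finset.card_le_five
    omega)
  simp only [Finset.mem_insert, Finset.mem_singleton, not_or] at hz hw
  obtain ⟨hzp, hzr, hzx, hza⟩ := hz
  obtain ⟨hwp, hwr, hwx, hwa, hwz⟩ := hw
  have hxp : x ≠ p := by
    rintro rfl
    rw [swap_apply_left] at hx
    exact hpr hx.symm
  have hxr : x ≠ r := by
    rintro rfl
    rw [swap_apply_right] at hx
    exact hpr hx
  have h1 := ha (c3 x z w) (sign_c3 (Ne.symm hzx) (Ne.symm hwx)) (by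
    intro y
    by_cases h1 : y = p
    · left
      rw [h1]
      unfold c3
      rw [Perm.mul_apply, swap_apply_of_ne_of_ne hxp.symm (Ne.symm hwp),
        swap_apply_of_ne_of_ne hxp.symm (Ne.symm hzp)]
    · by_cases h2 : y = r
      · left
        rw [h2]
        unfold c3
        rw [Perm.mul_apply, swap_apply_of_ne_of_ne hxr.symm (Ne.symm hwr),
          swap_apply_of_ne_of_ne hxr.symm (Ne.symm hzr)]
      · right
        exact swap_apply_of_ne_of_ne h1 h2)
  have h2 := congrArg (fun u : Perm α => u w) h1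
  -- `c3 x z w : w ↦ x? `
  have e1 : c3 x z w w = z := by
    unfold c3
    rw [Perm.mul_apply, swap_apply_right, swap_apply_left]
  have e2 : c3 x z w x = w := by
    unfold c3
    rw [Perm.mul_apply, swap_apply_left, swap_apply_of_ne_of_ne hwx hwz]
  have e3 : c3 x z w (a x) = a x := by
    unfold c3
    rw [Perm.mul_apply, swap_apply_of_ne_of_ne hne (Ne.symm hwa), swap_apply_of_ne_of_ne hne (Ne.symm hza)]
  have h3 := congrArg (fun u : Perm α => u x) h1
  simp only [Perm.mul_apply] at h3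
  rw [e2, e3] at h3
  exact hwx (a.injective h3)

/-- ... hence it is `1` if disjoint from `f` -/
theorem eq_one_of_comm (h6 : 6 ≤ Fintype.card α) {f a : Perm α} (hf : f.IsSwap)
    (ha : ∀ b, Perm.sign b = 1 → Perm.Disjoint b f → a * b = b * a) (haf : Perm.Disjoint a f) : a = 1 := by
  ext x
  rcases haf x with h | h
  · rw [h]; rfl
  · rw [fix_out h6 hf ha h]; rfl

/-- ... hence it is `1` or `f` -/
theorem eq_one_or (h6 : 6 ≤ Fintype.card α) {f a : Perm α} (hf : f.IsSwap)
    (ha : ∀ b, Perm.sign b = 1 → Perm.Disjoint b f → a * b = b * a) : a = 1 ∨ a = f := by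
  have hf' := hf
  obtain ⟨p, r, hpr, rfl⟩ := hf
  have h1 : ∀ x, x ≠ p → x ≠ r → a x = x := fun x hp hr =>
    fix_out h6 hf' ha (swap_apply_of_ne_of_ne hp hr)
  by_cases hp : a p = p
  · left
    have hr : a r = r := by
      by_contra hne
      by_cases h2 : a r = p
      · rw [← hp] at h2
        exact hpr (a.injective h2).symm
      · exact hne (a.injective (h1 (a r) h2 hne))
    ext x
    by_cases hxp : x = p
    · rw [hxp, hp]; rfl
    · by_cases hxr : x = r
      · rw [hxr, hr]; rfl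
      · rw [h1 x hxp hxr]; rfl
  · right
    have hpr' : a p = r := by
      by_contra hne
      exact hp (a.injective (h1 (a p) hp hne))
    have hrp : a r = p := by
      by_contra hne
      by_cases h2 : a r = r
      · rw [← hpr'] at h2
        exact hpr (a.injective (by rw [hpr']; rw [hpr'] at h2; exact h2.symm ▸ rfl))
      · exact h2 (a.injective (h1 (a r) hne h2))
    ext x
    by_cases hxp : x = p
    · rw [hxp, hpr', swap_apply_left]
    · by_cases hxr : x = r
      · rw [hxr, hrp, swap_apply_right]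
      · rw [h1 x hxp hxr, swap_apply_of_ne_of_ne hxp hxr]

end Cfsg.Agent.OddHalf.D5.SymLab

end

-- merged: Cfsg.Agent.OddHalf.D5.SymLab.Xgrp
section

/-!
# The subgroup `X` of `J` generated by the lifts of the 3-cycles outside of `e` and `f`
-/

set_option autoImplicit false
set_option linter.unusedSectionVars false

namespace Cfsg.Agent.OddHalf.D5.SymLab

open Subgroup Equiv Cfsg Cfsg.Agent.OddHalf.D3
open scoped commutatorElement

variable {G : Type*} [Group G] {α : Type*} [Fintype α] [DecidableEq α]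

theorem Good.lift_pow [Finite G] {t s : G} {j : Perm α →* G} {e : Perm α} {J : Subgroup G}
    (h : Good t j s e J) (hs : t * s = s * t) {a : Perm α} {x d : G} (hx : Good.Lift t j J a x)
    (ha3 : a ^ 3 = 1) (hd : d ∈ J) (hda : d * (t * d * t⁻¹) = j a) : ∃ r : ℕ, x = d ^ r := by
  set D : J := ⟨d, hd⟩ with hD
  have hpr : h.pr hs D = j a := hda
  have h1 : h.pr hs (D ^ 3) = 1 := by rw [map_pow, hpr, ← map_pow, ha3, map_one]
  have hz : ∀ u ∈ J, (d ^ 3) * u = u * (d ^ 3) := fun u hu => h.central hs (J.pow_mem hd 3) h1 hu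
  set m := orderOf (d ^ 3) with hm
  have hm0 : 0 < m := orderOf_pos _
  have h3m : ¬ 3 ∣ m := by
    rintro ⟨k, hk⟩
    have hk0 : 0 < k := by omega
    have h4 : (d ^ 3) ^ k = 1 := by
      apply h.z3 _ (J.pow_mem (J.pow_mem hd 3) k)
      · intro u hu
        have : Commute (d ^ 3) u := hz u hu
        exact (this.pow_left k).eq
      · rw [← pow_mul, mul_comm k 3, ← hk, hm]
        exact pow_orderOf_eq_one _
    have h5 := orderOf_dvd_of_pow_eq_one h4
    rw [← hm, hk] at h5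
    have := Nat.le_of_dvd hk0 h5
    omega
  have hco : Nat.Coprime 3 m := (Nat.Prime.coprime_iff_not_dvd Nat.prime_three).2 h3m
  obtain ⟨r, hr1, hr2⟩ := Nat.chineseRemainder hco 1 0
  refine ⟨r, h.lift_unique hs hx ⟨J.pow_mem hd r, ?_, ?_⟩⟩
  · rw [← pow_mul, mul_comm, pow_mul]
    exact orderOf_dvd_iff_pow_eq_one.1 (by rw [← hm]; exact (Nat.modEq_zero_iff_dvd).1 hr2)
  · have h6 : h.pr hs (D ^ r) = j a := by
      rw [map_pow, hpr, ← map_pow]
      congr 1
      have : orderOf a ∣ 3 := orderOf_dvd_of_pow_eq_one ha3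
      have h7 : r ≡ 1 [MOD orderOf a] := hr1.of_dvd this
      have h8 := pow_eq_pow_iff_modEq.2 h7
      rw [h8, pow_one]
    exact h6

/-- the lifts of the 3-cycles outside of `e`, `f` -/
def liftSet (t : G) (j : Perm α →* G) (J : Subgroup G) (e f : Perm α) : Set G :=
  {x | ∃ ρ : Perm α, ρ.IsThreeCycle ∧ Perm.Disjoint ρ e ∧ Perm.Disjoint ρ f ∧ Good.Lift t j J ρ x}

/-- the group generated by them -/
def XS (t : G) (j : Perm α →* G) (J : Subgroup G) (e f : Perm α) : Subgroup G := closure (liftSet t j J e f)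

variable {t s : G} {j : Perm α →* G} {e f : Perm α} {J : Subgroup G}

theorem three_cube {ρ : Perm α} (h : ρ.IsThreeCycle) : ρ ^ 3 = 1 := by
  rw [← h.orderOf]; exact pow_orderOf_eq_one _

theorem XS_le (t : G) (j : Perm α →* G) (J : Subgroup G) (e f : Perm α) : XS t j J e f ≤ J := by
  unfold XS
  rw [closure_le]
  rintro x ⟨ρ, -, -, -, h⟩
  exact h.mem

/-- `g` normalises `J`, commutes with `t` and with the 3-cycles outside of `e`, `f`: it commutes with `X` -/
theorem Good.comm_XS (h : Good t j s e J) (hs : t * s = s * t) {g : G} (hgt : g * t = t * g)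
    (hgJ : cj g J = J) (hg : ∀ ρ : Perm α, ρ.IsThreeCycle → Perm.Disjoint ρ e → Perm.Disjoint ρ f →
      g * j ρ = j ρ * g) : ∀ x ∈ XS t j J e f, g * x = x * g := by
  intro x hx
  unfold XS at hx
  induction hx using closure_induction with
  | mem x hx =>
    obtain ⟨ρ, h1, h2, h3, h4⟩ := hx
    have h5 : g * x * g⁻¹ = x := by
      apply h.lift_unique hs (a := ρ) ?_ h4
      refine ⟨?_, ?_, ?_⟩
      · have := conj_mem_cj (g := g) h4.mem
        rwa [hgJ] at this
      · rw [conj_pow, h4.cube]; group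
      · have e1 : t * (g * x * g⁻¹) * t⁻¹ = g * (t * x * t⁻¹) * g⁻¹ := by
          calc t * (g * x * g⁻¹) * t⁻¹ = (t * g) * x * (t * g)⁻¹ := by group
            _ = g * (t * x * t⁻¹) * g⁻¹ := by rw [← hgt]; group
        rw [e1]
        calc g * x * g⁻¹ * (g * (t * x * t⁻¹) * g⁻¹) = g * (x * (t * x * t⁻¹)) * g⁻¹ := by group
          _ = j ρ := by rw [h4.eq, hg ρ h1 h2 h3]; group
    calc g * x = g * x * g⁻¹ * g := by group
      _ = x * g := by rw [h5]
  | one => rw [mul_one, one_mul]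
  | mul x y _ _ hx hy => rw [← mul_assoc, hx, mul_assoc, hy, mul_assoc]
  | inv x _ hx =>
    rw [eq_inv_mul_iff_mul_eq, ← mul_assoc, ← hx, mul_assoc, mul_inv_cancel, mul_one]

/-- three letters of a 3-cycle outside of `e`, `f`, with two more letters -/
theorem exists_five {ρ : Perm α} (hρ : ρ.IsThreeCycle) (hcard : 9 ≤ Fintype.card α) (he : e.IsSwap)
    (hf : f.IsSwap) (hρe : Perm.Disjoint ρ e) (hρf : Perm.Disjoint ρ f) :
    ∃ q : Fin 5 ↪ α, ρ = Em q (c3 0 1 2) ∧ ∀ i, e (q i) = q i ∧ f (q i) = q i := by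
  obtain ⟨a, b, hab, rfl⟩ := he
  obtain ⟨c, d, hcd, rfl⟩ := hf
  have hne : ρ ≠ 1 := hρ.ne_one
  obtain ⟨x, hx⟩ : ∃ x, ρ x ≠ x := by
    by_contra hcon
    push Not at hcon
    exact hne (Perm.ext hcon)
  have hxs : x ∈ ρ.support := Perm.mem_support.2 hx
  have h1 := hρ.eq_swap_mul_swap_iff_mem_support.2 hxs
  have h2 := hρ.nodup_iff_mem_support.2 hxs
  set y := ρ x with hy
  set z := ρ y with hz
  have hxy : x ≠ y := by simp at h2; exact h2.1.1
  have hxz : x ≠ z := by simp at h2; exact h2.1.2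
  have hyz : y ≠ z := by simp at h2; exact h2.2
  have hmy : ρ y ≠ y := hyz.symm
  have hmz : ρ z ≠ z := fun h => hyz (ρ.injective (by rw [h]))
  obtain ⟨u, hu⟩ := exists_new {a, b, c, d, x, y, z} (by
    have : ({a, b, c, d, x, y, z} : Finset α).card ≤ 7 := by
      refine le_trans (Finset.card_insert_le _ _) ?_
      have : ({b, c, d, x, y, z} : Finset α).card ≤ 6 := Finset.card_le_six
      omega
    omega)
  obtain ⟨v, hv⟩ := exists_new {a, b, c, d, x, y, z, u} (by
    have : ({a, b, c, d, x, y, z, u} : Finset α).card ≤ 8 := by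
      refine le_trans (Finset.card_insert_le _ _) ?_
      refine le_trans (Nat.add_le_add_right (Finset.card_insert_le _ _) 1) ?_
      have : ({c, d, x, y, z, u} : Finset α).card ≤ 6 := Finset.card_le_six
      omega
    omega)
  simp only [Finset.mem_insert, Finset.mem_singleton, not_or] at hu hv
  obtain ⟨hua, hub, huc, hud, hux, huy, huz⟩ := hu
  obtain ⟨hva, hvb, hvc, hvd, hvx, hvy, hvz, hvu⟩ := hv
  have hfix : ∀ w, ρ w ≠ w → swap a b w = w ∧ swap c d w = w := fun w hw =>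
    ⟨(hρe w).resolve_left hw, (hρf w).resolve_left hw⟩
  -- order `(y, x, z)`: `c3 y x z = swap y x * swap y z`
  let p : Fin 5 → α := ![y, x, z, u, v]
  have hp : Function.Injective p := by
    intro i k hik
    fin_cases i <;> fin_cases k <;> simp [p] at hik ⊢ <;> first | exact hik | (exfalso; first
      | exact hxy hik | exact hxy hik.symm | exact hxz hik | exact hxz hik.symm | exact hyz hik
      | exact hyz hik.symm | exact hux hik | exact hux hik.symm | exact huy hik | exact huy hik.symm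
      | exact huz hik | exact huz hik.symm | exact hvx hik | exact hvx hik.symm | exact hvy hik
      | exact hvy hik.symm | exact hvz hik | exact hvz hik.symm | exact hvu hik | exact hvu hik.symm)
  refine ⟨⟨p, hp⟩, ?_, ?_⟩
  · rw [Em_c3]
    show ρ = c3 y x z
    unfold c3
    rw [swap_comm y x]
    exact h1
  · intro i
    fin_cases i
    · exact hfix y hmy
    · exact hfix x hx
    · exact hfix z hmz
    · exact ⟨swap_apply_of_ne_of_ne hua hub, swap_apply_of_ne_of_ne huc hud⟩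
    · exact ⟨swap_apply_of_ne_of_ne hva hvb, swap_apply_of_ne_of_ne hvc hvd⟩

/-- permutations of letters fixed by `f` are disjoint from `f` -/
theorem Em_disj {m : ℕ} (q : Fin m ↪ α) (h : ∀ i, f (q i) = q i) (u : Perm (Fin m)) :
    Perm.Disjoint (Em q u) f := by
  intro x
  by_cases hx : ∃ l, x = q l
  · obtain ⟨l, rfl⟩ := hx
    right; exact h l
  · push Not at hx
    left; exact Em_out q _ hx

theorem Em_three {m : ℕ} (q : Fin m ↪ α) {u : Perm (Fin m)} (h : u.IsThreeCycle) : (Em q u).IsThreeCycle := by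
  let _ : DecidablePred (fun x => x ∈ Set.range q) := fun _ => Classical.propDecidable _
  have h2 := Perm.cycleType_extendDomain (g := u) (Equiv.ofInjective q q.injective)
  unfold Perm.IsThreeCycle at h ⊢
  rw [← h, ← h2]
  rfl

theorem three_c3 {x y z : α} (h1 : x ≠ y) (h2 : x ≠ z) (h3 : y ≠ z) : (c3 x y z).IsThreeCycle :=
  Perm.isThreeCycle_swap_mul_swap_same h1 h2 h3

theorem comm5 : ⁅(c3 0 1 3 : Perm (Fin 5)), (c3 1 4 2 : Perm (Fin 5))⁆ = c3 0 1 2 := by
  rw [commutatorElement_def]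
  unfold c3
  decide +kernel

/-- `X` is perfect -/
theorem Good.perf_XS [Finite G] (h : Good t j s e J) (hs : t * s = s * t) (hcard : 9 ≤ Fintype.card α)
    (he : e.IsSwap) (hf : f.IsSwap) : ⁅XS t j J e f, XS t j J e f⁆ = XS t j J e f := by
  apply le_antisymm (commutator_le_self _)
  conv_lhs => unfold XS
  rw [closure_le]
  rintro x ⟨ρ, h1, h2, h3, h4⟩
  obtain ⟨q, hq, hqf⟩ := exists_five h1 hcard he hf h2 h3
  have key : ∀ u : Perm (Fin 5), u.IsThreeCycle → ∃ y ∈ XS t j J e f, y * (t * y * t⁻¹) = j (Em q u) := by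
    intro u hu
    have hu' := Em_three q hu
    obtain ⟨y, hy⟩ := h.exists_lift hs (a := Em q u) (Perm.IsThreeCycle.sign hu')
      (Em_disj q (fun i => (hqf i).1) u) (three_cube hu')
    exact ⟨y, subset_closure ⟨_, hu', Em_disj q (fun i => (hqf i).1) u,
      Em_disj q (fun i => (hqf i).2) u, hy⟩, hy.eq⟩
  obtain ⟨y, hy, hy1⟩ := key (c3 0 1 3) (three_c3 (by decide) (by decide) (by decide))
  obtain ⟨z, hz, hz1⟩ := key (c3 1 4 2) (three_c3 (by decide) (by decide) (by decide))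
  have hyJ := XS_le t j J e f hy
  have hzJ := XS_le t j J e f hz
  set Y : J := ⟨y, hyJ⟩ with hY
  set Z : J := ⟨z, hzJ⟩ with hZ
  have h5 : h.pr hs ⁅Y, Z⁆ = j ρ := by
    rw [map_commutatorElement, pr_apply, pr_apply]
    show ⁅y * (t * y * t⁻¹), z * (t * z * t⁻¹)⁆ = j ρ
    rw [hy1, hz1, ← map_commutatorElement, ← map_commutatorElement, hq, comm5]
  obtain ⟨r, hr⟩ := h.lift_pow hs h4 (three_cube h1) (d := ⁅y, z⁆) (⁅Y, Z⁆ : J).2 h5
  rw [hr]
  exact pow_mem (commutator_mem_commutator hy hz) r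

end Cfsg.Agent.OddHalf.D5.SymLab

end

-- merged: Cfsg.Agent.OddHalf.D5.SymLab.Swap
section

/-!
# A transposition `f` disjoint from `e` normalises `J`
-/

set_option autoImplicit false
set_option linter.unusedSectionVars false

namespace Cfsg.Agent.OddHalf.D5.SymLab

open Subgroup Equiv Cfsg Cfsg.Agent.OddHalf.D3
open scoped commutatorElement

variable {G : Type*} [Group G] {α : Type*} [Fintype α] [DecidableEq α]
variable {t s : G} {j : Perm α →* G} {e f : Perm α} {J : Subgroup G}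

theorem disj_mul {a b c : Perm α} (h1 : Perm.Disjoint a c) (h2 : Perm.Disjoint b c) :
    Perm.Disjoint (a * b) c := Perm.Disjoint.mul_left h1 h2

theorem disj_inv {a c : Perm α} (h1 : Perm.Disjoint a c) : Perm.Disjoint a⁻¹ c := Perm.Disjoint.inv_left h1

/-- `x x^t` for `x ∈ X` -/
theorem Good.pr_XS (h : Good t j s e J) (hs : t * s = s * t) : ∀ x ∈ XS t j J e f,
    ∃ a, Perm.sign a = 1 ∧ Perm.Disjoint a e ∧ Perm.Disjoint a f ∧ x * (t * x * t⁻¹) = j a := by
  intro x hx
  suffices hh : ∃ hxJ : x ∈ J, ∃ a, Perm.sign a = 1 ∧ Perm.Disjoint a e ∧ Perm.Disjoint a f ∧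
      h.pr hs ⟨x, hxJ⟩ = j a by
    obtain ⟨hxJ, a, h1, h2, h3, h4⟩ := hh
    exact ⟨a, h1, h2, h3, h4⟩
  unfold XS at hx
  induction hx using closure_induction with
  | mem x hx =>
    obtain ⟨ρ, h1, h2, h3, h4⟩ := hx
    exact ⟨h4.mem, ρ, Perm.IsThreeCycle.sign h1, h2, h3, h4.eq⟩
  | one => exact ⟨J.one_mem, 1, Perm.sign_one, Perm.disjoint_one_left _, Perm.disjoint_one_left _, by
      have : (⟨1, J.one_mem⟩ : J) = 1 := rfl
      rw [this, map_one, map_one]⟩
  | mul x y _ _ ihx ihy =>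
    obtain ⟨hxJ, a, h1, h2, h3, h4⟩ := ihx
    obtain ⟨hyJ, b, h5, h6, h7, h8⟩ := ihy
    refine ⟨J.mul_mem hxJ hyJ, a * b, by rw [Perm.sign_mul, h1, h5, one_mul], disj_mul h2 h6, disj_mul h3 h7, ?_⟩
    have : (⟨x * y, J.mul_mem hxJ hyJ⟩ : J) = ⟨x, hxJ⟩ * ⟨y, hyJ⟩ := rfl
    rw [this, map_mul, h4, h8, map_mul]
  | inv x _ ihx =>
    obtain ⟨hxJ, a, h1, h2, h3, h4⟩ := ihx
    refine ⟨J.inv_mem hxJ, a⁻¹, by rw [Perm.sign_inv, h1], disj_inv h2, disj_inv h3, ?_⟩
    have : (⟨x⁻¹, J.inv_mem hxJ⟩ : J) = ⟨x, hxJ⟩⁻¹ := rfl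
    rw [this, map_inv, h4, map_inv]

/-- eight letters -/
theorem exists_eight (hcard : 8 ≤ Fintype.card α) (he : e.IsSwap) (hf : f.IsSwap)
    (hef : Perm.Disjoint e f) : ∃ q : Fin 8 ↪ α, e = Em q (swap 0 1) ∧ f = Em q (swap 2 3) := by
  obtain ⟨a, b, hab, rfl⟩ := he
  obtain ⟨c, d, hcd, rfl⟩ := hf
  have hc : swap a b c = c := by
    rcases hef c with h | h
    · exact h
    · rw [swap_apply_left] at h; exact absurd h.symm hcd
  have hd : swap a b d = d := by
    rcases hef d with h | h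
    · exact h
    · rw [swap_apply_right] at h; exact absurd h hcd
  have hca : c ≠ a := by
    rintro rfl
    rw [swap_apply_left] at hc; exact hab hc.symm
  have hcb : c ≠ b := by
    rintro rfl
    rw [swap_apply_right] at hc; exact hab hc
  have hda : d ≠ a := by
    rintro rfl
    rw [swap_apply_left] at hd; exact hab hd.symm
  have hdb : d ≠ b := by
    rintro rfl
    rw [swap_apply_right] at hd; exact hab hd
  let p : Fin 4 → α := ![a, b, c, d]
  have hp : Function.Injective p := by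
    intro i k hik
    fin_cases i <;> fin_cases k <;> simp [p] at hik ⊢ <;> first | exact hik | (exfalso; first
      | exact hab hik | exact hab hik.symm | exact hcd hik | exact hcd hik.symm | exact hca hik
      | exact hca hik.symm | exact hcb hik | exact hcb hik.symm | exact hda hik | exact hda hik.symm
      | exact hdb hik | exact hdb hik.symm)
  obtain ⟨q, hq⟩ := exists_ext ⟨p, hp⟩ (show 4 ≤ 8 by norm_num) hcard
  refine ⟨q, ?_, ?_⟩
  · rw [Em_swap]
    have h0 := hq 0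
    have h1 := hq 1
    change q 0 = a at h0
    change q 1 = b at h1
    rw [h0, h1]
  · rw [Em_swap]
    have h0 := hq 2
    have h1 := hq 3
    change q 2 = c at h0
    change q 3 = d at h1
    rw [h0, h1]

/-! identities in `Perm (Fin 8)` -/

theorem p8_v : (c3 4 5 6 : Perm (Fin 8)) * c3 4 7 6 = swap 4 5 * swap 6 7 := by unfold c3; decide +kernel

theorem p8_v3 : (swap 4 5 * swap 6 7 : Perm (Fin 8)) * (c3 4 5 6 * (swap 4 5 * swap 6 7) * (c3 4 5 6)⁻¹) =
    c3 4 5 6 * (c3 4 5 6 * (swap 4 5 * swap 6 7) * (c3 4 5 6)⁻¹) * (c3 4 5 6)⁻¹ := by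
  unfold c3; decide +kernel

theorem p8_sq : (swap 4 5 * swap 6 7 : Perm (Fin 8)) * (swap 4 5 * swap 6 7) = 1 := by decide +kernel

theorem p8_sw1 : (swap 0 2 * swap 1 3 : Perm (Fin 8)) * swap 0 1 * (swap 0 2 * swap 1 3)⁻¹ = swap 2 3 := by
  decide +kernel

theorem p8_sw2 : (swap 0 2 * swap 1 3 : Perm (Fin 8)) * swap 2 3 * (swap 0 2 * swap 1 3)⁻¹ = swap 0 1 := by
  decide +kernel

theorem p8_sw3 : (swap 0 2 * swap 1 3 : Perm (Fin 8)) * (swap 4 5 * swap 6 7) * (swap 0 2 * swap 1 3)⁻¹ =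
    swap 4 5 * swap 6 7 := by decide +kernel

theorem abs_four {H : Type*} [Group H] {R X1 μ : H} (hR3 : R ^ 3 = 1) (hμc : ∀ u : H, μ * u = u * μ)
    (c1 : X1 * (R * X1 * R⁻¹) = R * (R * X1 * R⁻¹) * R⁻¹ * μ)
    (hYc : ∀ u : H, ((X1 * μ⁻¹) * (X1 * μ⁻¹)) * u = u * ((X1 * μ⁻¹) * (X1 * μ⁻¹))) :
    ((X1 * μ⁻¹) * (X1 * μ⁻¹)) * ((X1 * μ⁻¹) * (X1 * μ⁻¹)) = 1 := by
  have hμi : ∀ u : H, μ⁻¹ * u = u * μ⁻¹ := by
    intro u
    rw [inv_mul_eq_iff_eq_mul, ← mul_assoc, hμc, mul_assoc, mul_inv_cancel, mul_one]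
  have hR4 : R * (R * (R * X1 * R⁻¹) * R⁻¹) * R⁻¹ = X1 := by
    have : R * (R * (R * X1 * R⁻¹) * R⁻¹) * R⁻¹ = R ^ 3 * X1 * (R ^ 3)⁻¹ := by
      simp only [pow_succ, pow_zero, one_mul]; group
    rw [this, hR3, inv_one, one_mul, mul_one]
  -- conjugating twice
  have c2 : (R * (R * X1 * R⁻¹) * R⁻¹) * X1 = (R * X1 * R⁻¹) * μ := by
    have d1 : R * (R * (X1 * (R * X1 * R⁻¹)) * R⁻¹) * R⁻¹ =
        R * (R * (R * (R * X1 * R⁻¹) * R⁻¹ * μ) * R⁻¹) * R⁻¹ := by rw [c1]
    have d2 : R * (R * (X1 * (R * X1 * R⁻¹)) * R⁻¹) * R⁻¹ =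
        (R * (R * X1 * R⁻¹) * R⁻¹) * (R * (R * (R * X1 * R⁻¹) * R⁻¹) * R⁻¹) := by group
    have d3 : R * (R * (R * (R * X1 * R⁻¹) * R⁻¹ * μ) * R⁻¹) * R⁻¹ =
        R * (R * (R * (R * X1 * R⁻¹) * R⁻¹) * R⁻¹) * R⁻¹ * μ := by
      have d4 : ∀ u : H, R * (u * μ) * R⁻¹ = R * u * R⁻¹ * μ := by
        intro u
        calc R * (u * μ) * R⁻¹ = R * u * (μ * R⁻¹) := by group
          _ = R * u * R⁻¹ * μ := by rw [hμc]; group
      rw [d4, d4]
    rw [d2, d3, hR4] at d1
    exact d1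
  have c3' : (X1 * μ⁻¹) * ((R * X1 * R⁻¹) * μ⁻¹) * (X1 * μ⁻¹) = (R * X1 * R⁻¹) * μ⁻¹ := by
    calc (X1 * μ⁻¹) * ((R * X1 * R⁻¹) * μ⁻¹) * (X1 * μ⁻¹)
        = X1 * (μ⁻¹ * (R * X1 * R⁻¹)) * (μ⁻¹ * X1) * μ⁻¹ := by group
      _ = X1 * (R * X1 * R⁻¹) * μ⁻¹ * (μ⁻¹ * X1) * μ⁻¹ := by rw [hμi (R * X1 * R⁻¹)]; group
      _ = (R * (R * X1 * R⁻¹) * R⁻¹) * (μ⁻¹ * X1) * μ⁻¹ := by rw [c1]; group
      _ = (R * (R * X1 * R⁻¹) * R⁻¹) * X1 * μ⁻¹ * μ⁻¹ := by rw [hμi X1]; group
      _ = (R * X1 * R⁻¹) * μ⁻¹ := by rw [c2]; group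
  have e1 : (R * X1 * R⁻¹) * μ⁻¹ = (R * X1 * R⁻¹) * μ⁻¹ *
      (((X1 * μ⁻¹) * (X1 * μ⁻¹)) * ((X1 * μ⁻¹) * (X1 * μ⁻¹))) := by
    calc (R * X1 * R⁻¹) * μ⁻¹ = (X1 * μ⁻¹) * ((R * X1 * R⁻¹) * μ⁻¹) * (X1 * μ⁻¹) := c3'.symm
      _ = (X1 * μ⁻¹) * ((X1 * μ⁻¹) * ((R * X1 * R⁻¹) * μ⁻¹) * (X1 * μ⁻¹)) * (X1 * μ⁻¹) := by
          conv_rhs => rw [c3']
      _ = ((X1 * μ⁻¹) * (X1 * μ⁻¹)) * ((R * X1 * R⁻¹) * μ⁻¹) * ((X1 * μ⁻¹) * (X1 * μ⁻¹)) := by group
      _ = _ := by rw [hYc]; group
  exact mul_eq_left.1 e1.symm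

/-- a lift `x ∈ X` of the double transposition with `x^4 = 1` -/
theorem Good.exists_four [Finite G] (h : Good t j s e J) (hs : t * s = s * t) (q : Fin 8 ↪ α)
    (he : e = Em q (swap 0 1)) (hf : f = Em q (swap 2 3)) :
    ∃ x ∈ XS t j J e f, x * (t * x * t⁻¹) = j (Em q (swap 4 5 * swap 6 7)) ∧
      (x * x) * (x * x) = 1 ∧ ∀ u ∈ J, (x * x) * u = u * (x * x) := by
  have key : ∀ i k l : Fin 8, i ≠ k → i ≠ l → k ≠ l → Perm.Disjoint (c3 i k l) (swap (0 : Fin 8) 1) →
      Perm.Disjoint (c3 i k l) (swap (2 : Fin 8) 3) →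
      ∃ x ∈ XS t j J e f, Good.Lift t j J (Em q (c3 i k l)) x := by
    intro i k l h1 h2 h3 h4 h5
    have h6 := Em_three q (three_c3 h1 h2 h3)
    obtain ⟨x, hx⟩ := h.exists_lift hs (a := Em q (c3 i k l)) (Perm.IsThreeCycle.sign h6)
      (by rw [he]; exact disj_Em q h4) (three_cube h6)
    exact ⟨x, subset_closure ⟨_, h6, by rw [he]; exact disj_Em q h4, by rw [hf]; exact disj_Em q h5, hx⟩, hx⟩
  obtain ⟨r, hrX, hr⟩ := key 4 5 6 (by decide) (by decide) (by decide)
    (by unfold c3 Perm.Disjoint; decide +kernel) (by unfold c3 Perm.Disjoint; decide +kernel)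
  obtain ⟨b, hbX, hb⟩ := key 4 7 6 (by decide) (by decide) (by decide)
    (by unfold c3 Perm.Disjoint; decide +kernel) (by unfold c3 Perm.Disjoint; decide +kernel)
  have hle := XS_le t j J e f
  set R : J := ⟨r, hr.mem⟩ with hR
  set B : J := ⟨b, hb.mem⟩ with hB
  have hpR : h.pr hs R = j (Em q (c3 4 5 6)) := hr.eq
  have hpB : h.pr hs B = j (Em q (c3 4 7 6)) := hb.eq
  have hR3 : R ^ 3 = 1 := Subtype.ext hr.cube
  set v : Perm α := Em q (swap 4 5 * swap 6 7) with hv
  set X1 : J := R * B with hX1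
  have hpX1 : h.pr hs X1 = j v := by rw [map_mul, hpR, hpB, ← map_mul, ← map_mul, p8_v]
  set X2 : J := R * X1 * R⁻¹ with hX2
  set X3 : J := R * X2 * R⁻¹ with hX3
  set μ : J := X3⁻¹ * (X1 * X2) with hμ
  have hpμ : h.pr hs μ = 1 := by
    have e1 : h.pr hs (X1 * X2) = h.pr hs X3 := by
      have e4 := congrArg (j.comp (Em q)) p8_v3
      rw [hX3, hX2]
      simp only [map_mul, map_inv, MonoidHom.comp_apply] at e4 ⊢
      rw [hpX1, hpR, hv]
      simp only [map_mul]
      exact e4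
    rw [hμ, map_mul, map_inv, e1, inv_mul_cancel]
  have hμc : ∀ u : J, μ * u = u * μ := by
    intro u
    exact Subtype.ext (h.central hs μ.2 hpμ u.2)
  have c1 : X1 * X2 = X3 * μ := by rw [hμ, mul_inv_cancel_left]
  set Y1 : J := X1 * μ⁻¹ with hY1
  have hpY : h.pr hs (Y1 * Y1) = 1 := by
    have e1 : h.pr hs Y1 = j v := by rw [hY1, map_mul, map_inv, hpμ, inv_one, mul_one, hpX1]
    rw [map_mul, e1, ← map_mul, hv, ← map_mul, p8_sq, map_one, map_one]
  have hYc : ∀ u : J, (Y1 * Y1) * u = u * (Y1 * Y1) := fun u =>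
    Subtype.ext (h.central hs (Y1 * Y1).2 hpY u.2)
  have hY4 : (Y1 * Y1) * (Y1 * Y1) = 1 := abs_four hR3 hμc c1 hYc
  refine ⟨Y1, ?_, ?_, congrArg Subtype.val hY4, fun u hu => congrArg Subtype.val (hYc ⟨u, hu⟩)⟩
  · have m1 : (X1 : G) ∈ XS t j J e f := mul_mem hrX hbX
    have m2 : (X2 : G) ∈ XS t j J e f := mul_mem (mul_mem hrX m1) (inv_mem hrX)
    have m3 : (X3 : G) ∈ XS t j J e f := mul_mem (mul_mem hrX m2) (inv_mem hrX)
    have m4 : (μ : G) ∈ XS t j J e f := mul_mem (inv_mem m3) (mul_mem m1 m2)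
    exact mul_mem m1 (inv_mem m4)
  · have e1 : h.pr hs Y1 = j v := by rw [hY1, map_mul, map_inv, hpμ, inv_one, mul_one, hpX1]
    exact e1

/-- an involution `z` of `J`, `z z^t = 1`, is `j e` -/
theorem Good.invol (F : Fr t j) (h6 : 6 ≤ Fintype.card α) (h : Good t j (j e) e J) (he : e.IsSwap) {z : G}
    (hz : z ∈ J) (hz1 : z * (t * z * t⁻¹) = 1) (hzz : z * z = 1) : z = 1 ∨ z = j e := by
  have hs : t * j e = j e * t := F.comm e
  have hzi : z⁻¹ = z := inv_eq_of_mul_eq_one_left hzz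
  have h1 : t * z * t⁻¹ = z := by
    rw [← inv_eq_of_mul_eq_one_right hz1, hzi]
  have h2 : z * t = t * z := by
    calc z * t = (t * z * t⁻¹) * t := by rw [h1]
      _ = t * z := by group
  have hc := fun u hu => h.central hs hz hz1 (y := u) hu
  have hcb : ∀ b, Perm.sign b = 1 → Perm.Disjoint b e → z * j b = j b * z := by
    intro b hb hbe
    obtain ⟨d, hd, hdb⟩ := h.ex b hb hbe
    have e1 := hc d hd
    have e2 : z * (t * d * t⁻¹) = (t * d * t⁻¹) * z := by
      have e3 := h.comm hs hz hd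
      exact e3
    rw [← hdb, ← mul_assoc, e1, mul_assoc, e2, ← mul_assoc]
  obtain ⟨a, ha⟩ := F.cent z h2
  have hae : a = 1 ∨ a = e := by
    apply eq_one_or h6 he
    intro b hb hbe
    apply F.inj
    have e1 := hcb b hb hbe
    rw [map_mul, map_mul]
    rcases ha with ha | ha
    · rw [ha] at e1; exact e1
    · rw [ha] at e1
      have e2 : t * (j a * j b) = t * (j b * j a) := by
        rw [← mul_assoc, e1, ← mul_assoc, ← F.comm]; group
      exact mul_left_cancel e2
  rcases ha with ha | ha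
  · rcases hae with h3 | h3
    · left; rw [ha, h3, map_one]
    · right; rw [ha, h3]
  · exfalso
    apply h.ne
    have e1 : cj z J = J := cj_eq_of_mem hz
    have e2 : cj (j a) J = J := by
      apply cj_eq_of_mem_centralizer
      rw [mem_centralizer_iff]
      intro u hu
      rcases hae with h3 | h3
      · rw [h3, map_one, one_mul, mul_one]
      · rw [h3]; exact h.s_comm hu
    rw [ha, ← D3.cj_cj, e2] at e1
    exact e1

/-- `t^x` for a lift `x` of an involution -/
theorem Good.conj_t (h : Good t j s e J) (hs : t * s = s * t) {x : G} {k : Perm α} (hx : x ∈ J)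
    (hk : x * (t * x * t⁻¹) = j k) : x * t * x⁻¹ = (x * x) * (j k)⁻¹ * t := by
  have e1 := h.comm hs hx hx
  have e2 : t * x * t⁻¹ = x⁻¹ * j k := by rw [← hk]; group
  rw [e2] at e1
  -- x and j k commute
  have e3 : x * (j k)⁻¹ = (j k)⁻¹ * x := by
    have e4 : j k = x⁻¹ * j k * x := by rw [← e1]; group
    have e5 : x * j k = j k * x := by
      calc x * j k = x * (x⁻¹ * j k * x) := by rw [← e4]
        _ = j k * x := by group
    rw [eq_inv_mul_iff_mul_eq, ← mul_assoc, ← e5, mul_assoc, mul_inv_cancel, mul_one]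
  calc x * t * x⁻¹ = x * (t * x * t⁻¹)⁻¹ * t := by group
    _ = x * ((j k)⁻¹ * x) * t := by rw [e2]; group
    _ = (x * x) * (j k)⁻¹ * t := by rw [← e3]; group

/-- the pump-up hypothesis for `s = t j f` -/
def PumpT (t : G) (j : Perm α →* G) (f : Perm α) : Prop :=
  ∀ (g : G) (k : Perm α), g * (t * j f) = (t * j f) * g → k * k = 1 → Perm.Disjoint k f → 4 ≤ k.support.card →
    g * t * g⁻¹ = t * j k →
    (∀ D : Subgroup G, Comp (t * j f) D → (∀ a, Perm.sign a = 1 → Perm.Disjoint a f → j a ∈ D) → cj g D = D) →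
    ∃ J, Good t j (t * j f) f J

theorem supp_ne {k e a : Perm α} (hke : Perm.Disjoint k e) (hk : k ≠ 1) (h : a * e * a⁻¹ = k * e) : False := by
  have h1 : (a * e * a⁻¹).support.card = e.support.card := Perm.card_support_conj
  rw [h, hke.card_support_mul] at h1
  have h2 : k.support.card = 0 := by omega
  rw [Finset.card_eq_zero, Perm.support_eq_empty_iff] at h2
  exact hk h2

/-- **NO SWAP** -/
theorem Good.noswap [Finite G] (F : Fr t j) (hcard : 9 ≤ Fintype.card α) (he : e.IsSwap) (hf : f.IsSwap)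
    (hef : Perm.Disjoint e f) (h : Good t j (j e) e J) (hna : Good.NonAb e) (hP : PumpT t j f) :
    cj (j f) J = J := by
  by_contra hne
  have hs : t * j e = j e * t := F.comm e
  -- the swap
  have hsw : cj (j f) J = cj t J := by
    have h1 := h.conj F f
    have e1 : f * e * f⁻¹ = e := by rw [← hef.commute.eq]; group
    have e2 : j f * j e * (j f)⁻¹ = j e := by rw [← map_mul, ← map_inv, ← map_mul, e1]
    rw [e1, e2] at h1
    exact (Good.uniq F hs hna h h1).resolve_left hne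
  obtain ⟨q, hqe, hqf⟩ := exists_eight (by omega) he hf hef
  obtain ⟨x, hxX, hxk, hx4, hxc⟩ := h.exists_four hs q hqe hqf
  set k : Perm α := Em q (swap 4 5 * swap 6 7) with hk
  have hkk : k * k = 1 := by rw [hk, ← map_mul, p8_sq, map_one]
  have hkk' : j k * j k = 1 := by rw [← map_mul, hkk, map_one]
  have hki : (j k)⁻¹ = j k := inv_eq_of_mul_eq_one_left hkk'
  have hxJ := XS_le t j J e f hxX
  have hke : Perm.Disjoint k e := by
    rw [hqe, hk]; apply disj_Em; unfold Perm.Disjoint; decide +kernel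
  have hkf : Perm.Disjoint k f := by
    rw [hqf, hk]; apply disj_Em; unfold Perm.Disjoint; decide +kernel
  have hk1 : k ≠ 1 := by
    rw [hk]
    intro h1
    have h2 := Em_inj q (h1.trans (map_one _).symm)
    exact absurd h2 (by decide +kernel)
  -- `X` commutes with `t j f`
  have hXs : ∀ u ∈ XS t j J e f, u * (t * j f) = (t * j f) * u := by
    intro u hu
    refine (h.comm_XS hs (g := t * j f) ?_ ?_ ?_ u hu).symm
    · rw [mul_assoc, ← F.comm]
    · rw [← D3.cj_cj, hsw, F.cj_cj]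
    · intro ρ _ _ hρf
      have e1 : j f * j ρ = j ρ * j f := by rw [← map_mul, ← map_mul, hρf.commute.eq]
      rw [mul_assoc, e1, ← mul_assoc, F.comm, mul_assoc]
  have hxs := hXs x hxX
  have hxe : x * j e = j e * x := h.s_comm hxJ
  have hpx : (x * x) * (t * (x * x) * t⁻¹) = 1 := by
    have e1 : h.pr hs (⟨x, hxJ⟩ * ⟨x, hxJ⟩) = 1 := by
      have e2 : h.pr hs ⟨x, hxJ⟩ = j k := hxk
      rw [map_mul, e2, hkk']
    exact e1
  have hxt := h.conj_t hs hxJ hxk
  rw [hki] at hxt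
  rcases h.invol F (by omega) he (J.mul_mem hxJ hxJ) hpx hx4 with hx2 | hx2
  · -- `x² = 1`
    rw [hx2, one_mul] at hxt
    set c : Perm α := Em q (swap 0 2 * swap 1 3) with hc
    have hce : c * e * c⁻¹ = f := by
      rw [hc, hqe, hqf, ← map_inv, ← map_mul, ← map_mul, p8_sw1]
    have hck : c * k * c⁻¹ = k := by rw [hc, hk, ← map_inv, ← map_mul, ← map_mul, p8_sw3]
    have hcf : c * f * c⁻¹ = e := by rw [hc, hqe, hqf, ← map_inv, ← map_mul, ← map_mul, p8_sw2]
    -- the conjugate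
    set y : G := j c * x * (j c)⁻¹ with hy
    have hct : (j c)⁻¹ * t * j c = t := by
      rw [mul_assoc, F.comm]; group
    have hct' : j c * t * (j c)⁻¹ = t := by rw [← F.comm]; group
    have hyt : y * t * y⁻¹ = j k * t := by
      calc y * t * y⁻¹ = j c * (x * ((j c)⁻¹ * t * j c) * x⁻¹) * (j c)⁻¹ := by rw [hy]; group
        _ = j c * (j k * t) * (j c)⁻¹ := by rw [hct, hxt]
        _ = (j c * j k * (j c)⁻¹) * (j c * t * (j c)⁻¹) := by group
        _ = j k * t := by rw [hct', ← map_mul, ← map_inv, ← map_mul, hck]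
    have hys : y * (t * j e) * y⁻¹ = t * j e := by
      have e1 : (j c)⁻¹ * (t * j e) * j c = t * j f := by
        calc (j c)⁻¹ * (t * j e) * j c = ((j c)⁻¹ * t * j c) * ((j c)⁻¹ * j e * j c) := by group
          _ = t * j f := by
              rw [hct, ← hcf, map_mul, map_mul, map_inv]; group
      calc y * (t * j e) * y⁻¹ = j c * (x * ((j c)⁻¹ * (t * j e) * j c) * x⁻¹) * (j c)⁻¹ := by
            rw [hy]; group
        _ = j c * (t * j f) * (j c)⁻¹ := by
            rw [e1, hxs]; group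
        _ = (j c * t * (j c)⁻¹) * (j c * j f * (j c)⁻¹) := by group
        _ = t * j e := by rw [hct', ← map_mul, ← map_inv, ← map_mul, hcf]
    have hye : y * j e * y⁻¹ = j k * j e := by
      have e1 : j e = t * (t * j e) := by rw [← mul_assoc, F.tt, one_mul]
      calc y * j e * y⁻¹ = (y * t * y⁻¹) * (y * (t * j e) * y⁻¹) := by
            conv_lhs => rw [e1]
            group
        _ = j k * (t * (t * j e)) := by rw [hyt, hys]; group
        _ = j k * j e := by rw [← e1]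
    have hyk : y * j k * y⁻¹ = j k := by
      have e1 : j k = (y * t * y⁻¹) * t := by rw [hyt, mul_assoc, F.tt, mul_one]
      have e2 : y * (y * t * y⁻¹) * y⁻¹ = t := by
        -- `y² = 1`
        have e3 : y * y = 1 := by
          calc y * y = j c * (x * x) * (j c)⁻¹ := by rw [hy]; group
            _ = 1 := by rw [hx2]; group
        calc y * (y * t * y⁻¹) * y⁻¹ = (y * y) * t * (y * y)⁻¹ := by group
          _ = t := by rw [e3]; group
      calc y * j k * y⁻¹ = (y * (y * t * y⁻¹) * y⁻¹) * (y * t * y⁻¹) := by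
            conv_lhs => rw [e1]
            group
        _ = t * (j k * t) := by rw [e2, hyt]
        _ = j k := by rw [← mul_assoc, F.comm, mul_assoc, F.tt, mul_one]
    -- `m = y x` commutes with `t`
    have hmt : (y * x) * t = t * (y * x) := by
      have : (y * x) * t * (y * x)⁻¹ = t := by
        calc (y * x) * t * (y * x)⁻¹ = y * (x * t * x⁻¹) * y⁻¹ := by group
          _ = (y * j k * y⁻¹) * (y * t * y⁻¹) := by rw [hxt]; group
          _ = t := by rw [hyk, hyt, ← mul_assoc, hkk', one_mul]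
      calc (y * x) * t = (y * x) * t * (y * x)⁻¹ * (y * x) := by group
        _ = t * (y * x) := by rw [this]
    have hme : (y * x) * j e * (y * x)⁻¹ = j (k * e) := by
      calc (y * x) * j e * (y * x)⁻¹ = y * (x * j e * x⁻¹) * y⁻¹ := by group
        _ = y * j e * y⁻¹ := by rw [hxe]; group
        _ = j (k * e) := by rw [hye, map_mul]
    obtain ⟨a, ha⟩ := F.cent _ hmt
    have hae : j (a * e * a⁻¹) = j (k * e) := by
      rw [← hme]
      rcases ha with ha | ha
      · rw [ha, map_mul, map_mul, map_inv]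
      · rw [ha, map_mul, map_mul, map_inv]
        calc j a * j e * (j a)⁻¹ = j (a * e * a⁻¹) := by rw [map_mul, map_mul, map_inv]
          _ = t * j (a * e * a⁻¹) * t⁻¹ := (F.conj_t _).symm
          _ = t * j a * j e * (t * j a)⁻¹ := by rw [map_mul, map_mul, map_inv]; group
    exact supp_ne hke hk1 (F.inj hae)
  · -- `x² = j e`
    rw [hx2] at hxt
    have hs' : t * (t * j f) = (t * j f) * t := by rw [mul_assoc, ← F.comm]
    have hxt' : x * t * x⁻¹ = t * j (k * e) := by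
      rw [hxt, ← map_mul, ← F.comm, hke.commute.eq]
    have P : Per t j (t * j f) f (XS t j J e f) := by
      refine ⟨hXs, fun u hu v hv => h.comm hs (XS_le t j J e f hu) (XS_le t j J e f hv), ?_,
        h.perf_XS hs hcard he hf⟩
      intro u hu
      obtain ⟨a, h1, _, h3, h4⟩ := h.pr_XS hs u hu
      exact ⟨a, h1, h3, h4⟩
    have hcard4 : 4 ≤ (k * e).support.card := by
      rw [hke.card_support_mul]
      have h1 := Perm.two_le_card_support_of_ne_one hk1
      have h2 : e.support.card = 2 := Perm.card_support_eq_two.2 he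
      omega
    have hkek : (k * e) * (k * e) = 1 := by
      have hee : e * e = 1 := by
        obtain ⟨a, b, _, rfl⟩ := he
        exact swap_mul_self a b
      calc (k * e) * (k * e) = (k * e) * (e * k) := by rw [hke.commute.eq]
        _ = k * (e * e) * k := by group
        _ = 1 := by rw [hee, mul_one, hkk]
    obtain ⟨J', hJ'⟩ := hP x (k * e) hxs hkek (disj_mul hkf hef) hcard4 hxt' (by
      intro D hD hle
      exact (P.norS_le' (fun a ha haf L hL => cj_of_le hD hle ha haf hL) hxX).2 D hD)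
    have heX : j e ∈ XS t j J e f := by rw [← hx2]; exact mul_mem hxX hxX
    obtain ⟨b, hb, hbe⟩ := P.innS_le hJ' hs' heX
    obtain ⟨c, hc1, hcf, hc⟩ := hJ'.mem b hb
    -- `c⁻¹ e` centralises the even permutations outside of `f`
    have hce : c⁻¹ * e = 1 := by
      apply eq_one_of_comm (f := f) (by omega) hf ?_ (disj_mul (disj_inv hcf) hef)
      intro a ha haf
      obtain ⟨d, hd, hda⟩ := hJ'.ex a ha haf
      have e1 : j e * (t * d * t⁻¹) * (j e)⁻¹ = t * (j e * d * (j e)⁻¹) * t⁻¹ := by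
        calc j e * (t * d * t⁻¹) * (j e)⁻¹ = (j e * t) * d * (j e * t)⁻¹ := by group
          _ = t * (j e * d * (j e)⁻¹) * t⁻¹ := by rw [← F.comm]; group
      have e2 : (t * b * t⁻¹) * d = d * (t * b * t⁻¹) := (hJ'.comm hs' hd hb).symm
      have e3 : j e * j a * (j e)⁻¹ = j c * j a * (j c)⁻¹ := by
        calc j e * j a * (j e)⁻¹ = (j e * d * (j e)⁻¹) * (j e * (t * d * t⁻¹) * (j e)⁻¹) := by
              rw [← hda]; group
          _ = (b * d * b⁻¹) * (t * (b * d * b⁻¹) * t⁻¹) := by rw [e1, hbe d hd]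
          _ = b * d * (b⁻¹ * (t * b * t⁻¹)) * (t * d * t⁻¹) * (t * b * t⁻¹)⁻¹ := by group
          _ = b * d * ((t * b * t⁻¹) * b⁻¹) * (t * d * t⁻¹) * (t * b * t⁻¹)⁻¹ := by
              rw [hJ'.comm hs' (J'.inv_mem hb) hb]
          _ = b * (d * (t * b * t⁻¹)) * (b⁻¹ * (t * d * t⁻¹)) * (t * b * t⁻¹)⁻¹ := by group
          _ = b * ((t * b * t⁻¹) * d) * ((t * d * t⁻¹) * b⁻¹) * (t * b * t⁻¹)⁻¹ := by
              rw [e2, hJ'.comm hs' (J'.inv_mem hb) hd]
          _ = (b * (t * b * t⁻¹)) * (d * (t * d * t⁻¹)) * (b * (t * b * t⁻¹))⁻¹ := by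
              have e4 : (t * b * t⁻¹) * b = b * (t * b * t⁻¹) := (hJ'.comm hs' hb hb).symm
              calc b * ((t * b * t⁻¹) * d) * ((t * d * t⁻¹) * b⁻¹) * (t * b * t⁻¹)⁻¹
                  = (b * (t * b * t⁻¹)) * (d * (t * d * t⁻¹)) * ((t * b * t⁻¹) * b)⁻¹ := by group
                _ = _ := by rw [e4]
          _ = j c * j a * (j c)⁻¹ := by rw [hc, hda]
      apply F.inj
      simp only [map_mul, map_inv]
      calc (j c)⁻¹ * j e * j a = (j c)⁻¹ * (j e * j a * (j e)⁻¹) * j e := by group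
        _ = (j c)⁻¹ * (j c * j a * (j c)⁻¹) * j e := by rw [e3]
        _ = j a * ((j c)⁻¹ * j e) := by group
    have h9 : e = c := by rw [inv_mul_eq_one] at hce; exact hce.symm
    have h10 : Perm.sign e = -1 := he.sign_eq
    rw [h9, hc1] at h10
    exact absurd h10 (by decide)

end Cfsg.Agent.OddHalf.D5.SymLab

end

-- merged: Cfsg.Agent.OddHalf.D5.SymLab.Lab
section

/-!
# The lifts of a 3-cycle in `J_e` and in `J_f`, `e`, `f` disjoint transpositions
-/

set_option autoImplicit false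
set_option linter.unusedSectionVars false

namespace Cfsg.Agent.OddHalf.D5.SymLab

open Subgroup Equiv Cfsg Cfsg.Agent.OddHalf.D3 Cfsg.Agent.SignalizersComponents
open scoped commutatorElement

variable {G : Type*} [Group G] {α : Type*} [Fintype α] [DecidableEq α]
variable {t s : G} {j : Perm α →* G} {e f : Perm α} {J : Subgroup G}

/-- the centre of `C` is the kernel -/
theorem quasisimple_of_surj {C U : Type*} [Group C] [Group U] (π : C →* U)
    (hs : Function.Surjective π) (hk : π.ker ≤ Subgroup.center C) (hperf : Group.IsPerfect C)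
    (hU : IsSimpleGroup U) (hna : ∃ x y : U, x * y ≠ y * x) : IsQuasisimple C := by
  refine ⟨hperf, ?_⟩
  have hc : Subgroup.center C = π.ker := by
    apply le_antisymm _ hk
    intro c hc
    have h1 : (Subgroup.center C).map π ≤ Subgroup.center U := by
      rintro _ ⟨z, hz, rfl⟩
      rw [mem_center_iff]
      intro u
      obtain ⟨v, rfl⟩ := hs u
      rw [← map_mul, ← map_mul, mem_center_iff.1 hz v]
    have h2 : Subgroup.center U = ⊥ := by
      rcases (inferInstance : (Subgroup.center U).Normal).eq_bot_or_eq_top with h | h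
      · exact h
      · exfalso
        obtain ⟨x, y, hxy⟩ := hna
        apply hxy
        have : y ∈ Subgroup.center U := by rw [h]; exact mem_top _
        exact mem_center_iff.1 this x
    rw [h2] at h1
    exact (mem_bot.1 (h1 ⟨c, hc, rfl⟩))
  have e1 : C ⧸ Subgroup.center C ≃* C ⧸ π.ker := QuotientGroup.quotientMulEquivOfEq hc
  have e := e1.trans (QuotientGroup.quotientKerEquivOfSurjective π hs)
  have hn : Nontrivial (C ⧸ Subgroup.center C) := e.toEquiv.nontrivial
  exact IsSimpleGroup.isSimpleGroup_of_surjective e.symm.toMonoidHom e.symm.surjective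

/-- the letters outside of `e`, `f` -/
abbrev Off (e f : Perm α) : Type _ := {x : α // e x = x ∧ f x = x}

/-- the permutations of these letters -/
noncomputable def offHom (e f : Perm α) : Perm (Off e f) →* Perm α := Perm.ofSubtype

theorem offHom_inj (e f : Perm α) : Function.Injective (offHom e f) := Perm.ofSubtype_injective

theorem offHom_disj (e f : Perm α) (u : Perm (Off e f)) :
    Perm.Disjoint (offHom e f u) e ∧ Perm.Disjoint (offHom e f u) f := by
  constructor
  · intro x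
    by_cases hx : e x = x ∧ f x = x
    · right; exact hx.1
    · left; exact Perm.ofSubtype_apply_of_not_mem u hx
  · intro x
    by_cases hx : e x = x ∧ f x = x
    · right; exact hx.2
    · left; exact Perm.ofSubtype_apply_of_not_mem u hx

theorem offHom_sign (e f : Perm α) (u : Perm (Off e f)) : Perm.sign (offHom e f u) = Perm.sign u :=
  Perm.sign_ofSubtype u

theorem offHom_three (e f : Perm α) (u : Perm (Off e f)) :
    (offHom e f u).IsThreeCycle ↔ u.IsThreeCycle := by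
  unfold Perm.IsThreeCycle offHom
  rw [Perm.cycleType_ofSubtype]

theorem exists_off {e f a : Perm α} (h1 : Perm.Disjoint a e) (h2 : Perm.Disjoint a f) :
    ∃ u : Perm (Off e f), offHom e f u = a := by
  have hmem : ∀ x, (e (a x) = a x ∧ f (a x) = a x) ↔ (e x = x ∧ f x = x) := by
    intro x
    symm
    by_cases hx : a x = x
    · rw [hx]
    · have e1 := (h1 x).resolve_left hx
      have e2 := (h2 x).resolve_left hx
      have hax : a (a x) ≠ a x := fun h => hx (a.injective h)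
      exact ⟨fun _ => ⟨(h1 _).resolve_left hax, (h2 _).resolve_left hax⟩, fun _ => ⟨e1, e2⟩⟩
  refine ⟨a.subtypePerm hmem, ?_⟩
  apply Perm.ofSubtype_subtypePerm
  intro x hx
  exact ⟨(h1 x).resolve_left hx, (h2 x).resolve_left hx⟩

/-- `{x x^t : x ∈ X}` -/
theorem Good.map_XS [Finite G] (h : Good t j s e J) (hs : t * s = s * t) :
    ((XS t j J e f).subgroupOf J).map (h.pr hs) =
      (alternatingGroup (Off e f)).map (j.comp (offHom e f)) := by
  apply le_antisymm
  · rintro _ ⟨x, hx, rfl⟩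
    obtain ⟨a, h1, h2, h3, h4⟩ := h.pr_XS hs x.1 hx
    obtain ⟨u, hu⟩ := exists_off h2 h3
    refine ⟨u, ?_, ?_⟩
    · show u ∈ alternatingGroup _
      rw [Perm.mem_alternatingGroup, ← offHom_sign, hu, h1]
    · show j (offHom e f u) = h.pr hs x
      rw [hu, ← h4]; rfl
  · rw [← Perm.closure_three_cycles_eq_alternating, MonoidHom.map_closure, closure_le]
    rintro _ ⟨u, hu, rfl⟩
    have hu' : (offHom e f u).IsThreeCycle := (offHom_three e f u).2 hu
    obtain ⟨x, hx⟩ := h.exists_lift hs (Perm.IsThreeCycle.sign hu') (offHom_disj e f u).1 (three_cube hu')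
    refine ⟨⟨x, hx.mem⟩, ?_, hx.eq⟩
    show x ∈ XS t j J e f
    exact subset_closure ⟨_, hu', (offHom_disj e f u).1, (offHom_disj e f u).2, hx⟩

theorem card_off (hcard : 9 ≤ Fintype.card α) (he : e.IsSwap) (hf : f.IsSwap) : 5 ≤ Nat.card (Off e f) := by
  rw [Nat.card_eq_fintype_card, Fintype.card_subtype]
  have h1 : (Finset.univ.filter fun x => e x = x ∧ f x = x) = (e.support ∪ f.support)ᶜ := by
    ext x
    simp only [Finset.mem_filter, Finset.mem_univ, true_and, Finset.mem_compl, Finset.mem_union,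
      Perm.mem_support, not_or, not_not]
  rw [h1, Finset.card_compl]
  have h2 := Finset.card_union_le e.support f.support
  have h3 : e.support.card = 2 := Perm.card_support_eq_two.2 he
  have h4 : f.support.card = 2 := Perm.card_support_eq_two.2 hf
  omega

theorem exists_emb5 {β : Type*} [Fintype β] (h : 5 ≤ Nat.card β) : Nonempty (Fin 5 ↪ β) := by
  rw [Nat.card_eq_fintype_card] at h
  exact Function.Embedding.nonempty_of_card_le (by rw [Fintype.card_fin]; exact h)

theorem c3_ne : (c3 0 1 2 : Perm (Fin 5)) * c3 0 1 3 ≠ c3 0 1 3 * c3 0 1 2 := by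
  unfold c3; decide +kernel

theorem nonAb (hcard : 9 ≤ Fintype.card α) (he : e.IsSwap) (hf : f.IsSwap) :
    ∃ a b : Perm α, a.IsThreeCycle ∧ b.IsThreeCycle ∧ Perm.Disjoint a e ∧ Perm.Disjoint b e ∧
      Perm.Disjoint a f ∧ Perm.Disjoint b f ∧ a * b ≠ b * a := by
  obtain ⟨q⟩ := exists_emb5 (card_off hcard he hf)
  refine ⟨offHom e f (Em q (c3 0 1 2)), offHom e f (Em q (c3 0 1 3)), ?_, ?_, (offHom_disj e f _).1,
    (offHom_disj e f _).1, (offHom_disj e f _).2, (offHom_disj e f _).2, ?_⟩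
  · exact (offHom_three e f _).2 (Em_three q (three_c3 (by decide) (by decide) (by decide)))
  · exact (offHom_three e f _).2 (Em_three q (three_c3 (by decide) (by decide) (by decide)))
  · intro h
    rw [← map_mul, ← map_mul, ← map_mul, ← map_mul] at h
    exact c3_ne (Em_inj q (offHom_inj e f h))

theorem nonAb' (hcard : 9 ≤ Fintype.card α) (he : e.IsSwap) : Good.NonAb e := by
  obtain ⟨a, b, h1, h2, h3, h4, _, _, h5⟩ := nonAb hcard he he
  exact ⟨a, b, h1.sign, h2.sign, h3, h4, h5⟩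

/-- `X` is quasisimple -/
theorem Good.quasi_XS [Finite G] (F : Fr t j) (h : Good t j s e J) (hs : t * s = s * t)
    (hcard : 9 ≤ Fintype.card α) (he : e.IsSwap) (hf : f.IsSwap) : IsQuasisimple (XS t j J e f) := by
  have h5 : 5 ≤ Nat.card (Off e f) := card_off hcard he hf
  have hsimple : IsSimpleGroup (alternatingGroup (Off e f)) := alternatingGroup.isSimpleGroup h5
  set Θ : Perm (Off e f) →* G := j.comp (offHom e f) with hΘ
  have hΘi : Function.Injective Θ := F.inj.comp (offHom_inj e f)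
  set E := (alternatingGroup (Off e f)).equivMapOfInjective Θ hΘi with hE
  have hle := XS_le t j J e f
  -- the homomorphism `X → G`
  let π₀ : XS t j J e f →* G := (h.pr hs).comp (inclusion hle)
  have hπ₀ : ∀ x, π₀ x ∈ (alternatingGroup (Off e f)).map Θ := by
    intro x
    rw [← h.map_XS hs]
    exact ⟨⟨x.1, hle x.2⟩, x.2, rfl⟩
  let π : XS t j J e f →* (alternatingGroup (Off e f)).map Θ := π₀.codRestrict _ hπ₀
  let π' : XS t j J e f →* alternatingGroup (Off e f) := E.symm.toMonoidHom.comp π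
  have hsurj : Function.Surjective π := by
    rintro ⟨y, hy⟩
    have hy' := hy
    rw [← h.map_XS hs] at hy'
    obtain ⟨x, hx, hxy⟩ := hy'
    exact ⟨⟨x.1, hx⟩, Subtype.ext hxy⟩
  refine quasisimple_of_surj π' (E.symm.surjective.comp hsurj) ?_ ?_ hsimple ?_
  · intro x hx
    have h1 : π x = 1 := by
      have : E.symm (π x) = 1 := hx
      rw [← E.symm.map_one] at this
      exact E.symm.injective this
    have h2 : h.pr hs ⟨x.1, hle x.2⟩ = 1 := congrArg Subtype.val h1
    rw [mem_center_iff]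
    intro y
    exact Subtype.ext (h.central hs (hle x.2) h2 (hle y.2)).symm
  · exact Subgroup.isPerfect_iff.2 (h.perf_XS hs hcard he hf)
  · obtain ⟨q⟩ := exists_emb5 h5
    refine ⟨⟨Em q (c3 0 1 2), ?_⟩, ⟨Em q (c3 0 1 3), ?_⟩, ?_⟩
    · rw [Perm.mem_alternatingGroup, sign_Em, sign_c3 (by decide) (by decide)]
    · rw [Perm.mem_alternatingGroup, sign_Em, sign_c3 (by decide) (by decide)]
    · intro h
      have h1 := congrArg Subtype.val h
      change Em q (c3 0 1 2) * Em q (c3 0 1 3) = Em q (c3 0 1 3) * Em q (c3 0 1 2) at h1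
      rw [← map_mul, ← map_mul] at h1
      exact c3_ne (Em_inj q h1)

/-- `X` is a component of `C(e) ∩ C(f)` -/
theorem Good.comp_XS [Finite G] (F : Fr t j) (h : Good t j (j e) e J)
    (hcard : 9 ≤ Fintype.card α) (he : e.IsSwap) (hf : f.IsSwap) (hef : Perm.Disjoint e f)
    (hJ : cj (j f) J = J) :
    XS t j J e f ≤ centralizer ({j e} : Set G) ⊓ centralizer ({j f} : Set G) ∧
      IsComponent ((XS t j J e f).subgroupOf (centralizer ({j e} : Set G) ⊓ centralizer ({j f} : Set G))) := by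
  have hs : t * j e = j e * t := F.comm e
  have hle := XS_le t j J e f
  set C := centralizer ({j e} : Set G) ⊓ centralizer ({j f} : Set G) with hC
  have hXf : ∀ u ∈ XS t j J e f, j f * u = u * j f := by
    apply h.comm_XS hs (F.comm f).symm hJ
    intro ρ _ _ hρ
    rw [← map_mul, ← map_mul, hρ.commute.eq]
  have hXC : XS t j J e f ≤ C := by
    intro x hx
    exact mem_inf.2 ⟨h.comp.le (hle hx), mem_cs.2 (hXf x hx).symm⟩
  refine ⟨hXC, ?_, ?_⟩
  · -- subnormal
    have h1 : (J.subgroupOf C).IsSubnormal := by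
      have h2 := h.comp.comp.1.comap (inclusion (inf_le_left : C ≤ centralizer ({j e} : Set G)))
      exact h2
    have h3 : (XS t j J e f).subgroupOf C ≤ J.subgroupOf C := comap_mono hle
    refine IsSubnormal.trans h3 ?_ h1
    apply Normal.isSubnormal
    refine ⟨?_⟩
    rintro ⟨⟨x, hxC⟩, hxJ⟩ hx ⟨⟨g, hgC⟩, hgJ⟩
    have hx' : x ∈ XS t j J e f := hx
    have hgJ' : g ∈ J := hgJ
    have hgf : g * j f = j f * g := mem_cs.1 (mem_inf.1 hgC).2
    show g * x * g⁻¹ ∈ XS t j J e f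
    -- `pr g`
    obtain ⟨c, hc1, hce, hc⟩ := h.mem g hgJ'
    have hcf : c * f = f * c := by
      apply F.inj
      rw [map_mul, map_mul, ← hc]
      have e1 : (t * g * t⁻¹) * j f = j f * (t * g * t⁻¹) := by
        calc (t * g * t⁻¹) * j f = t * g * (t⁻¹ * j f) := by group
          _ = t * (g * j f) * t⁻¹ := by rw [F.t_inv, F.comm]; group
          _ = (t * j f) * g * t⁻¹ := by rw [hgf]; group
          _ = j f * (t * g * t⁻¹) := by rw [F.comm]; group
      rw [mul_assoc, e1, ← mul_assoc, hgf, mul_assoc]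
    have hstab : ∀ y ∈ XS t j J e f, g * y * g⁻¹ ∈ XS t j J e f := by
      intro y hy
      unfold XS at hy
      induction hy using closure_induction with
      | mem y hy =>
        obtain ⟨ρ, h1, h2, h3, h4⟩ := hy
        refine subset_closure ⟨c * ρ * c⁻¹, ?_, ?_, ?_, ?_, ?_, ?_⟩
        · show (c * ρ * c⁻¹).cycleType = {3}
          rw [Perm.cycleType_conj]; exact h1
        · have h5 := h2.conj c
          have e1 : c * e * c⁻¹ = e := by rw [hce.commute.eq]; group
          rwa [e1] at h5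
        · have h5 := h3.conj c
          have e1 : c * f * c⁻¹ = f := by rw [hcf]; group
          rwa [e1] at h5
        · exact J.mul_mem (J.mul_mem hgJ' h4.mem) (J.inv_mem hgJ')
        · rw [conj_pow, h4.cube]; group
        · have e1 : h.pr hs (⟨g, hgJ'⟩ * ⟨y, h4.mem⟩ * ⟨g, hgJ'⟩⁻¹) = j (c * ρ * c⁻¹) := by
            have e2 : h.pr hs ⟨g, hgJ'⟩ = j c := hc
            have e3 : h.pr hs ⟨y, h4.mem⟩ = j ρ := h4.eq
            rw [map_mul, map_mul, map_inv, e2, e3, map_mul, map_mul, map_inv]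
          exact e1
      | one => rw [mul_one, mul_inv_cancel]; exact one_mem _
      | mul y z _ _ hy hz =>
        have e1 : g * (y * z) * g⁻¹ = (g * y * g⁻¹) * (g * z * g⁻¹) := by group
        rw [e1]; exact mul_mem hy hz
      | inv y _ hy =>
        have e1 : g * y⁻¹ * g⁻¹ = (g * y * g⁻¹)⁻¹ := by group
        rw [e1]; exact inv_mem hy
    exact hstab x hx'
  · exact Components.isQuasisimple_of_mulEquiv (Subgroup.subgroupOfEquivOfLe hXC).symm
      (h.quasi_XS F hs hcard he hf)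

/-- `X = X(e, f)` lies in `J'` or `J'^t`, for `J'` over `f` -/
theorem Good.XS_le_or [Finite G] (F : Fr t j) {J' : Subgroup G} (h : Good t j (j e) e J)
    (h' : Good t j (j f) f J')
    (hcard : 9 ≤ Fintype.card α) (he : e.IsSwap) (hf : f.IsSwap) (hef : Perm.Disjoint e f)
    (hJ : cj (j f) J = J) (hJ' : cj (j e) J' = J') :
    XS t j J e f ≤ J' ∨ XS t j J e f ≤ cj t J' := by
  have hs : t * j e = j e * t := F.comm e
  have hs' : t * j f = j f * t := F.comm f
  obtain ⟨hXC, hcomp⟩ := h.comp_XS F hcard he hf hef hJ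
  set C := centralizer ({j e} : Set G) ⊓ centralizer ({j f} : Set G) with hC
  have hXe : ∀ u ∈ XS t j J' f e, j e * u = u * j e := by
    apply h'.comm_XS hs' (F.comm e).symm hJ'
    intro ρ _ _ hρ
    rw [← map_mul, ← map_mul, hρ.commute.eq]
  have hYC : XS t j J' f e ≤ C := by
    intro x hx
    exact mem_inf.2 ⟨mem_cs.2 (hXe x hx).symm, h'.comp.le (XS_le _ _ _ _ _ hx)⟩
  have htC : ∀ y ∈ C, t * y * t⁻¹ ∈ C := by
    intro y hy
    have h1 := mem_cs.1 (mem_inf.1 hy).1
    have h2 := mem_cs.1 (mem_inf.1 hy).2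
    have aux : ∀ u : Perm α, y * j u = j u * y → (t * y * t⁻¹) * j u = j u * (t * y * t⁻¹) := by
      intro u hu
      calc (t * y * t⁻¹) * j u = t * y * (t⁻¹ * j u) := by group
        _ = t * (y * j u) * t⁻¹ := by rw [F.t_inv, F.comm]; group
        _ = (t * j u) * y * t⁻¹ := by rw [hu]; group
        _ = j u * (t * y * t⁻¹) := by rw [F.comm]; group
    exact mem_inf.2 ⟨mem_cs.2 (aux e h1), mem_cs.2 (aux f h2)⟩
  have key : ∀ M : Subgroup G, Comp (j f) M → XS t j J e f ≤ M ∨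
      ∀ x ∈ XS t j J e f, ∀ y ∈ M, y ∈ C → x * y = y * x := by
    intro M hM
    have h1 : (M.subgroupOf C).IsSubnormal :=
      hM.comp.1.comap (inclusion (inf_le_right : C ≤ centralizer ({j f} : Set G)))
    rcases Components.component_le_or_commutator_eq_bot hcomp h1 with h2 | h2
    · left
      intro x hx
      exact h2 (show (⟨x, hXC hx⟩ : C) ∈ (XS t j J e f).subgroupOf C from hx)
    · right
      intro x hx y hy hyC
      rw [commutator_eq_bot_iff_le_centralizer] at h2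
      have h3 := h2 (show (⟨x, hXC hx⟩ : C) ∈ (XS t j J e f).subgroupOf C from hx)
      have h4 := mem_centralizer_iff.1 h3 ⟨y, hyC⟩ hy
      exact (congrArg Subtype.val h4).symm
  rcases key J' h'.comp with h1 | h1
  · exact Or.inl h1
  rcases key _ (h'.comp' hs') with h2 | h2
  · exact Or.inr h2
  exfalso
  obtain ⟨a, b, ha, hb, hae, hbe, haf, hbf, hab⟩ := nonAb hcard he hf
  obtain ⟨x, hx⟩ := h.exists_lift hs ha.sign hae (three_cube ha)
  obtain ⟨y, hy⟩ := h'.exists_lift hs' hb.sign hbf (three_cube hb)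
  have hxX : x ∈ XS t j J e f := subset_closure ⟨a, ha, hae, haf, hx⟩
  have hyY : y ∈ XS t j J' f e := subset_closure ⟨b, hb, hbf, hbe, hy⟩
  have e1 := h1 x hxX y hy.mem (hYC hyY)
  have e2 := h2 x hxX (t * y * t⁻¹) (conj_mem_cj hy.mem) (htC y (hYC hyY))
  have e3 : x * j b = j b * x := by
    rw [← hy.eq, ← mul_assoc, e1, mul_assoc, e2, ← mul_assoc]
  have e4 : (t * x * t⁻¹) * j b = j b * (t * x * t⁻¹) := by
    calc (t * x * t⁻¹) * j b = t * x * (t⁻¹ * j b) := by group
      _ = t * (x * j b) * t⁻¹ := by rw [F.t_inv, F.comm]; group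
      _ = (t * j b) * x * t⁻¹ := by rw [e3]; group
      _ = j b * (t * x * t⁻¹) := by rw [F.comm]; group
  apply hab
  apply F.inj
  rw [map_mul, map_mul, ← hx.eq, mul_assoc, e4, ← mul_assoc, e3, mul_assoc]

/-! ### the lifts -/

/-- the data -/
structure Sys (t : G) (j : Perm α →* G) : Prop where
  F : Fr t j
  ex : ∀ e : Perm α, e.IsSwap → ∃ J, Good t j (j e) e J
  nsw : ∀ (e f : Perm α) (J : Subgroup G), e.IsSwap → f.IsSwap → Perm.Disjoint e f →
    Good t j (j e) e J → cj (j f) J = J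

/-- `x` is a lift of `ρ` -/
def IsLift (t : G) (j : Perm α →* G) (ρ : Perm α) (x : G) : Prop :=
  ∃ (e : Perm α) (J : Subgroup G), e.IsSwap ∧ Perm.Disjoint ρ e ∧ Good t j (j e) e J ∧ Good.Lift t j J ρ x

/-- disjoint `e`, `f` -/
theorem Sys.two [Finite G] (S : Sys t j) (hcard : 9 ≤ Fintype.card α) {J' : Subgroup G}
    (he : e.IsSwap) (hf : f.IsSwap) (hef : Perm.Disjoint e f) (h : Good t j (j e) e J)
    (h' : Good t j (j f) f J') {ρ : Perm α} (hρ : ρ.IsThreeCycle) (hρe : Perm.Disjoint ρ e)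
    (hρf : Perm.Disjoint ρ f) {x y : G} (hx : Good.Lift t j J ρ x) (hy : Good.Lift t j J' ρ y) :
    y = x ∨ y = t * x * t⁻¹ := by
  have hs : t * j e = j e * t := S.F.comm e
  have hs' : t * j f = j f * t := S.F.comm f
  have hxX : x ∈ XS t j J e f := subset_closure ⟨ρ, hρ, hρe, hρf, hx⟩
  rcases h.XS_le_or S.F h' hcard he hf hef (S.nsw e f J he hf hef h) (S.nsw f e J' hf he hef.symm h') with h1 | h1
  · left
    exact (h'.lift_unique hs' ⟨h1 hxX, hx.cube, hx.eq⟩ hy).symm
  · right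
    have h2 := Good.Lift.tconj S.F h' hs' hy
    have h3 := (h'.symm S.F hs').lift_unique hs' ⟨h1 hxX, hx.cube, hx.eq⟩ h2
    rw [h3, S.F.ttx]

theorem disj_swap {a : Perm α} {x y : α} (hx : a x = x) (hy : a y = y) : Perm.Disjoint a (swap x y) := by
  intro z
  by_cases h1 : z = x
  · left; rw [h1, hx]
  · by_cases h2 : z = y
    · left; rw [h2, hy]
    · right; exact swap_apply_of_ne_of_ne h1 h2

theorem exists_swap_out (s : Finset α) (hs : s.card + 2 ≤ Fintype.card α) :
    ∃ x y, x ≠ y ∧ x ∉ s ∧ y ∉ s := by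
  obtain ⟨x, hx⟩ := exists_new s (by omega)
  obtain ⟨y, hy⟩ := exists_new (insert x s) (by
    have := Finset.card_insert_le x s
    omega)
  simp only [Finset.mem_insert, not_or] at hy
  exact ⟨x, y, Ne.symm hy.1, hx, hy.2⟩

theorem exists_third {e f ρ : Perm α} (hcard : 9 ≤ Fintype.card α) (he : e.IsSwap) (hf : f.IsSwap)
    (hρ : ρ.IsThreeCycle) : ∃ g : Perm α, g.IsSwap ∧ Perm.Disjoint ρ g ∧ Perm.Disjoint e g ∧ Perm.Disjoint f g := by
  obtain ⟨x, y, hxy, hx, hy⟩ := exists_swap_out (ρ.support ∪ (e.support ∪ f.support)) (by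
    have h1 := Finset.card_union_le ρ.support (e.support ∪ f.support)
    have h2 := Finset.card_union_le e.support f.support
    have h3 : e.support.card = 2 := Perm.card_support_eq_two.2 he
    have h4 : f.support.card = 2 := Perm.card_support_eq_two.2 hf
    have h5 : ρ.support.card = 3 := hρ.card_support
    omega)
  simp only [Finset.mem_union, Perm.mem_support, not_or, not_not] at hx hy
  exact ⟨swap x y, ⟨x, y, hxy, rfl⟩, disj_swap hx.1 hy.1, disj_swap hx.2.1 hy.2.1, disj_swap hx.2.2 hy.2.2⟩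

theorem Sys.lift_eq [Finite G] (S : Sys t j) (hcard : 9 ≤ Fintype.card α) {ρ : Perm α}
    (hρ : ρ.IsThreeCycle) {x y : G} (hx : IsLift t j ρ x) (hy : IsLift t j ρ y) : y = x ∨ y = t * x * t⁻¹ := by
  obtain ⟨e, J, he, hρe, h, hx⟩ := hx
  obtain ⟨f, J', hf, hρf, h', hy⟩ := hy
  obtain ⟨g, hg, hρg, heg, hfg⟩ := exists_third hcard he hf hρ
  obtain ⟨M, hM⟩ := S.ex g hg
  obtain ⟨z, hz⟩ := hM.exists_lift (S.F.comm g) hρ.sign hρg (three_cube hρ)
  rcases S.two hcard he hg heg h hM hρ hρe hρg hx hz with h1 | h1 <;>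
  rcases S.two hcard hf hg hfg h' hM hρ hρf hρg hy hz with h2 | h2
  · left; rw [← h2, h1]
  · right
    have : y = t * z * t⁻¹ := by rw [h2, S.F.ttx]
    rw [this, h1]
  · right; rw [← h2, h1]
  · left
    have h3 : t * x * t⁻¹ = t * y * t⁻¹ := by rw [← h1, h2]
    have h4 := mul_left_cancel (mul_right_cancel h3)
    exact h4.symm

end Cfsg.Agent.OddHalf.D5.SymLab

end

-- merged: Cfsg.Agent.OddHalf.D5.SymLab.Final
section

/-!
# The group `K₁` generated by the lifts of one label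
-/

set_option autoImplicit false
set_option linter.unusedSectionVars false

namespace Cfsg.Agent.OddHalf.D5.SymLab

open Subgroup Equiv Cfsg Cfsg.Agent.OddHalf.D3 Cfsg.Agent.SignalizersComponents
open scoped commutatorElement

variable {G : Type*} [Group G] {α : Type*} [Fintype α] [DecidableEq α]
variable {t s : G} {j : Perm α →* G} {e f : Perm α} {J : Subgroup G}

theorem IsLift.conj (F : Fr t j) {ρ : Perm α} {x : G} (h : IsLift t j ρ x) (c : Perm α) :
    IsLift t j (c * ρ * c⁻¹) (j c * x * (j c)⁻¹) := by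
  obtain ⟨e, J, he, hρe, hJ, hx⟩ := h
  refine ⟨c * e * c⁻¹, cj (j c) J, ?_, hρe.conj c, ?_, hx.conj F c⟩
  · obtain ⟨a, b, hab, rfl⟩ := he
    exact ⟨c a, c b, fun h => hab (c.injective h), by
      rw [Equiv.mul_swap_eq_swap_mul, mul_inv_cancel_right]⟩
  · have h1 := hJ.conj F c
    have e1 : j (c * e * c⁻¹) = j c * j e * (j c)⁻¹ := by rw [map_mul, map_mul, map_inv]
    rw [e1]
    exact h1

theorem IsLift.pr (F : Fr t j) {ρ : Perm α} {x : G} (h : IsLift t j ρ x) : x * (t * x * t⁻¹) = j ρ := by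
  obtain ⟨e, J, he, hρe, hJ, hx⟩ := h
  exact hx.eq

theorem IsLift.comm (F : Fr t j) {ρ : Perm α} {x : G} (h : IsLift t j ρ x) :
    x * (t * x * t⁻¹) = (t * x * t⁻¹) * x := by
  obtain ⟨e, J, he, hρe, hJ, hx⟩ := h
  exact hJ.comm (F.comm e) hx.mem hx.mem

/-- a transposition disjoint from `ρ` commutes with the lift -/
theorem Sys.swap_comm [Finite G] (S : Sys t j) (hcard : 9 ≤ Fintype.card α) {ρ : Perm α}
    (hρ : ρ.IsThreeCycle) {x : G} (hx : IsLift t j ρ x) {h : Perm α} (hh : h.IsSwap)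
    (hρh : Perm.Disjoint ρ h) : j h * x = x * j h := by
  obtain ⟨M, hM⟩ := S.ex h hh
  obtain ⟨z, hz⟩ := hM.exists_lift (S.F.comm h) hρ.sign hρh (three_cube hρ)
  have h1 : z * j h = j h * z := hM.s_comm hz.mem
  rcases S.lift_eq hcard hρ ⟨h, M, hh, hρh, hM, hz⟩ hx with h2 | h2
  · rw [h2]; exact h1.symm
  · rw [h2]
    calc j h * (t * z * t⁻¹) = (j h * t) * z * t⁻¹ := by group
      _ = t * (j h * z) * t⁻¹ := by rw [← S.F.comm]; group
      _ = t * z * (j h * t⁻¹) := by rw [← h1]; group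
      _ = (t * z * t⁻¹) * j h := by rw [S.F.t_inv, ← S.F.comm]; group

/-- `C(ρ)` fixes the lifts -/
theorem Sys.stab [Finite G] (S : Sys t j) (hcard : 9 ≤ Fintype.card α) {ρ : Perm α}
    (hρ : ρ.IsThreeCycle) {x : G} (hx : IsLift t j ρ x) {c : Perm α} (hc : c * ρ = ρ * c) :
    j c * x = x * j c := by
  -- the centralizer of `x`
  let T : Subgroup (Perm α) := (centralizer ({x} : Set G)).comap j
  have hT : ∀ u, u ∈ T ↔ j u * x = x * j u := fun u => by
    show j u ∈ centralizer ({x} : Set G) ↔ _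
    exact mem_cs
  have hρT : ρ ∈ T := by
    rw [hT, ← hx.pr S.F]
    have h1 := hx.comm S.F
    rw [mul_assoc, ← h1]
  -- permutations disjoint from `ρ`
  have hdis : ∀ u : Perm α, Perm.Disjoint u ρ → u ∈ T := by
    intro u hu
    obtain ⟨v, hv⟩ := exists_off hu hu
    have h1 : v ∈ closure {σ : Perm (Off ρ ρ) | σ.IsSwap} := by rw [Perm.closure_isSwap]; exact mem_top _
    have h2 : closure {σ : Perm (Off ρ ρ) | σ.IsSwap} ≤ T.comap (offHom ρ ρ) := by
      rw [closure_le]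
      rintro w ⟨a, b, hab, rfl⟩
      show offHom ρ ρ (swap a b) ∈ T
      rw [hT]
      apply S.swap_comm hcard hρ hx
      · refine ⟨a.1, b.1, fun h => hab (Subtype.ext h), ?_⟩
        exact Perm.ofSubtype_swap_eq a b
      · exact (offHom_disj ρ ρ _).1.symm
    have h3 := h2 h1
    rw [← hv]
    exact h3
  -- move `c`
  obtain ⟨a, ha⟩ : ∃ a, ρ a ≠ a := by
    by_contra hcon
    push Not at hcon
    exact hρ.ne_one (Perm.ext hcon)
  have hsup := hρ.support_eq_iff_mem_support.2 (Perm.mem_support.2 ha)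
  have hfix : ∀ d : Perm α, d * ρ = ρ * d → d a = a → d ∈ T := by
    intro d hd hda
    apply hdis
    intro y
    by_cases hy : ρ y = y
    · right; exact hy
    · left
      have hy' : y ∈ ρ.support := Perm.mem_support.2 hy
      rw [hsup] at hy'
      have e1 : d (ρ a) = ρ a := by
        have := congrArg (fun u : Perm α => u a) hd
        simp only [Perm.mul_apply] at this
        rw [this, hda]
      have e2 : d (ρ (ρ a)) = ρ (ρ a) := by
        have := congrArg (fun u : Perm α => u (ρ a)) hd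
        simp only [Perm.mul_apply] at this
        rw [this, e1]
      simp only [Finset.mem_insert, Finset.mem_singleton] at hy'
      rcases hy' with rfl | rfl | rfl
      · exact hda
      · exact e1
      · exact e2
  have hca : c a ∈ ρ.support := by
    rw [Perm.mem_support]
    have := congrArg (fun u : Perm α => u a) hc
    simp only [Perm.mul_apply] at this
    rw [← this]
    exact fun h => ha (c.injective h)
  rw [hsup] at hca
  simp only [Finset.mem_insert, Finset.mem_singleton] at hca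
  have hcomm : Commute c ρ := hc
  rw [← hT]
  rcases hca with h1 | h1 | h1
  · exact hfix c hc h1
  · have h2 : ρ⁻¹ * c ∈ T := hfix _ ((Commute.refl ρ).inv_left.mul_left hcomm).eq (by
      rw [Perm.mul_apply, h1, ← Perm.mul_apply, inv_mul_cancel, Perm.one_apply])
    have := T.mul_mem hρT h2
    rwa [mul_inv_cancel_left] at this
  · have h2 : ρ⁻¹ * (ρ⁻¹ * c) ∈ T := hfix _
      ((Commute.refl ρ).inv_left.mul_left ((Commute.refl ρ).inv_left.mul_left hcomm)).eq (by
      rw [Perm.mul_apply, Perm.mul_apply, h1, ← Perm.mul_apply, ← Perm.mul_apply, ← Perm.mul_apply]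
      have e1 : ρ⁻¹ * (ρ⁻¹ * (ρ * ρ)) = 1 := by group
      first
        | rw [e1, Perm.one_apply]
        | (have e2 := congrArg (fun u : Perm α => u a) e1
           simpa using e2))
    have := T.mul_mem hρT (T.mul_mem hρT h2)
    rwa [mul_inv_cancel_left, mul_inv_cancel_left] at this

/-- 3-cycles outside of `e` are conjugate in `Alt (Ω - e)` -/
theorem conj_out (hcard : 9 ≤ Fintype.card α) (he : e.IsSwap) {ρ σ : Perm α} (hρ : ρ.IsThreeCycle)
    (hσ : σ.IsThreeCycle) (hρe : Perm.Disjoint ρ e) (hσe : Perm.Disjoint σ e) :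
    ∃ a, Perm.sign a = 1 ∧ Perm.Disjoint a e ∧ a * ρ * a⁻¹ = σ := by
  obtain ⟨u, hu⟩ := exists_off hρe hρe
  obtain ⟨v, hv⟩ := exists_off hσe hσe
  have hu3 : u.IsThreeCycle := by rw [← offHom_three e e u, hu]; exact hρ
  have hv3 : v.IsThreeCycle := by rw [← offHom_three e e v, hv]; exact hσ
  have h5 : 5 ≤ Nat.card (Off e e) := card_off hcard he he
  rw [Nat.card_eq_fintype_card] at h5
  have h1 : IsConj (⟨u, hu3.mem_alternatingGroup⟩ : alternatingGroup (Off e e))
      ⟨v, hv3.mem_alternatingGroup⟩ := alternatingGroup.isThreeCycle_isConj (by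
        rw [Nat.card_eq_fintype_card] ; exact h5) hu3 hv3
  obtain ⟨w, hw⟩ := isConj_iff.1 h1
  refine ⟨offHom e e w, ?_, (offHom_disj e e _).1, ?_⟩
  · rw [offHom_sign]; exact Perm.mem_alternatingGroup.1 w.2
  · have h2 := congrArg (fun z : alternatingGroup (Off e e) => offHom e e z.1) hw
    simp only [coe_mul, InvMemClass.coe_inv, map_mul, map_inv] at h2
    rw [hu, hv] at h2
    exact h2

/-- two lifts of the same label commute across -/
theorem Sys.cross [Finite G] (S : Sys t j) (hcard : 9 ≤ Fintype.card α) {ρ₀ : Perm α}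
    (hρ₀ : ρ₀.IsThreeCycle) {x₀ : G} (hx₀ : IsLift t j ρ₀ x₀) (c d : Perm α) :
    (j c * x₀ * (j c)⁻¹) * (t * (j d * x₀ * (j d)⁻¹) * t⁻¹) =
      (t * (j d * x₀ * (j d)⁻¹) * t⁻¹) * (j c * x₀ * (j c)⁻¹) := by
  have hc3 : (c * ρ₀ * c⁻¹).IsThreeCycle := by
    show (c * ρ₀ * c⁻¹).cycleType = {3}
    rw [Perm.cycleType_conj]; exact hρ₀
  have hd3 : (d * ρ₀ * d⁻¹).IsThreeCycle := by
    show (d * ρ₀ * d⁻¹).cycleType = {3}
    rw [Perm.cycleType_conj]; exact hρ₀
  have hr := hx₀.conj S.F c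
  set ρ := c * ρ₀ * c⁻¹ with hρ
  set σ := d * ρ₀ * d⁻¹ with hσ
  set r := j c * x₀ * (j c)⁻¹ with hrdef
  obtain ⟨x, y, hxy, hx, hy⟩ := exists_swap_out (ρ.support ∪ σ.support) (by
    have h1 := Finset.card_union_le ρ.support σ.support
    have h2 : ρ.support.card = 3 := hc3.card_support
    have h3 : σ.support.card = 3 := hd3.card_support
    omega)
  simp only [Finset.mem_union, Perm.mem_support, not_or, not_not] at hx hy
  set e : Perm α := swap x y with he'
  have he : e.IsSwap := ⟨x, y, hxy, rfl⟩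
  have hρe : Perm.Disjoint ρ e := disj_swap hx.1 hy.1
  have hσe : Perm.Disjoint σ e := disj_swap hx.2 hy.2
  have hs : t * j e = j e * t := S.F.comm e
  -- `J ∋ r`
  obtain ⟨J, hJ, hrJ⟩ : ∃ J, Good t j (j e) e J ∧ Good.Lift t j J ρ r := by
    obtain ⟨J, hJ⟩ := S.ex e he
    obtain ⟨z, hz⟩ := hJ.exists_lift hs hc3.sign hρe (three_cube hc3)
    rcases S.lift_eq hcard hc3 ⟨e, J, he, hρe, hJ, hz⟩ hr with h1 | h1
    · exact ⟨J, hJ, by rw [h1]; exact hz⟩
    · exact ⟨cj t J, hJ.symm S.F hs, by rw [h1]; exact hz.tconj S.F hJ hs⟩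
  obtain ⟨a, ha, hae, haρ⟩ := conj_out hcard he hc3 hd3 hρe hσe
  have h1 := hrJ.conj S.F a
  have h2 : cj (j a) J = J := hJ.cj_comp hs ha hae hJ.comp
  rw [h2, haρ] at h1
  -- `r^a = x₀^d`
  have h3 : j a * r * (j a)⁻¹ = j d * x₀ * (j d)⁻¹ := by
    have e1 : (d⁻¹ * (a * c)) * ρ₀ = ρ₀ * (d⁻¹ * (a * c)) := by
      have e2 : (a * c) * ρ₀ * (a * c)⁻¹ = d * ρ₀ * d⁻¹ := by
        rw [← hσ, ← haρ, hρ]; group
      calc (d⁻¹ * (a * c)) * ρ₀ = d⁻¹ * ((a * c) * ρ₀ * (a * c)⁻¹) * (a * c) := by group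
        _ = ρ₀ * (d⁻¹ * (a * c)) := by rw [e2]; group
    have e3 := S.stab hcard hρ₀ hx₀ e1
    have e4 : j (d⁻¹ * (a * c)) = (j d)⁻¹ * (j a * j c) := by rw [map_mul, map_inv, map_mul]
    rw [e4] at e3
    calc j a * r * (j a)⁻¹ = j d * ((j d)⁻¹ * (j a * j c) * x₀) * (j a * j c)⁻¹ := by rw [hrdef]; group
      _ = j d * (x₀ * ((j d)⁻¹ * (j a * j c))) * (j a * j c)⁻¹ := by rw [e3]
      _ = j d * x₀ * (j d)⁻¹ := by group
  rw [h3] at h1
  exact hJ.comm hs hrJ.mem h1.mem

end Cfsg.Agent.OddHalf.D5.SymLab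

end

-- merged: Cfsg.Agent.OddHalf.D5.SymLab.End
section

/-!
# ODD D5, `C_G(t) = ⟨t⟩ × S_n`, `n ≥ 9`: the end from the components of the centralizers of the transpositions
-/

set_option autoImplicit false
set_option linter.unusedSectionVars false

namespace Cfsg.Agent.OddHalf.D5.SymLab

open Subgroup Equiv Cfsg Cfsg.Agent.OddHalf.D3

variable {G : Type*} [Group G] {n : ℕ}

theorem fr_of_sp {t : G} {j : Perm (Fin n) →* G} (h : Sym.Sp t j) : Fr t j where
  tt := h.tt
  inj := h.inj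
  comm := h.comm
  cent := by
    intro g hg
    obtain ⟨z, a, hz, ha⟩ := h.cent g hg
    rcases hz with rfl | rfl
    · exact ⟨a, Or.inl (by rw [ha, one_mul])⟩
    · exact ⟨a, Or.inr ha⟩
  ne := h.ne

theorem exists_two [Finite G] (hn : 9 ≤ n) {t : G} {ι : (⊤ : Subgroup (Perm (Fin n))) →* G}
    (h : Spl t ⊤ ι)
    (hA : ∀ e : Perm (Fin n), e.IsSwap → ∃ J, Good t (Sym.jj ι) (Sym.jj ι e) e J)
    (hP : ∀ f : Perm (Fin n), f.IsSwap → PumpT t (Sym.jj ι) f) : ∃ K₁ : Subgroup G, SymEnd.Two t ι K₁ := by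
  have hcard : 9 ≤ Fintype.card (Fin n) := by rw [Fintype.card_fin]; exact hn
  have F := fr_of_sp (Sym.sp_of_spl h)
  set j := Sym.jj ι with hj
  have hji : ∀ a : (⊤ : Subgroup (Perm (Fin n))), ι a = j a.1 := fun a => rfl
  have S : Sys t j := ⟨F, hA, fun e f J he hf hef hJ =>
    hJ.noswap F hcard he hf hef (nonAb' hcard he) (hP f hf)⟩
  -- the first 3-cycle
  obtain ⟨q⟩ : Nonempty (Fin 5 ↪ Fin n) := ⟨Fin.castLEEmb (by omega)⟩
  set ρ₀ : Perm (Fin n) := Em q (c3 0 1 2) with hρ₀def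
  have hρ₀ : ρ₀.IsThreeCycle := Em_three q (three_c3 (by decide) (by decide) (by decide))
  set e : Perm (Fin n) := Em q (swap 3 4) with he
  have hes : e.IsSwap := ⟨q 3, q 4, q.injective.ne (by decide), Em_swap q 3 4⟩
  have hρe : Perm.Disjoint ρ₀ e := disj_Em q (by unfold c3 Perm.Disjoint; decide +kernel)
  obtain ⟨J, hJ⟩ := hA e hes
  obtain ⟨x₀, hx⟩ := hJ.exists_lift (F.comm e) hρ₀.sign hρe (three_cube hρ₀)
  have hx₀ : IsLift t j ρ₀ x₀ := ⟨e, J, hes, hρe, hJ, hx⟩
  set R : Set G := {x | ∃ c, x = j c * x₀ * (j c)⁻¹} with hR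
  refine ⟨_, SymEnd.Two.mk_of h le_top R ?_ ?_ ?_ ?_⟩
  · rintro _ ⟨c, rfl⟩ _ ⟨d, rfl⟩
    have h1 := S.cross hcard hρ₀ hx₀ c d
    rw [F.t_inv] at h1
    exact h1
  · rintro _ ⟨c, rfl⟩
    have h1 := (hx₀.conj F c).pr F
    rw [F.t_inv] at h1
    refine ⟨⟨c * ρ₀ * c⁻¹, mem_top _⟩, ?_, h1⟩
    show c * ρ₀ * c⁻¹ ∈ alternatingGroup (Fin n)
    have h3 : (c * ρ₀ * c⁻¹).IsThreeCycle := by
      show (c * ρ₀ * c⁻¹).cycleType = {3}
      rw [Perm.cycleType_conj]; exact hρ₀
    exact h3.mem_alternatingGroup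
  · intro a ha
    have h1 : IsConj ρ₀ (a : Perm (Fin n)) := Perm.isConj_iff_cycleType_eq.2 (hρ₀.trans ha.symm)
    obtain ⟨c, hc⟩ := isConj_iff.1 h1
    refine ⟨j c * x₀ * (j c)⁻¹, subset_closure ⟨c, rfl⟩, ?_⟩
    have h2 := (hx₀.conj F c).pr F
    rw [F.t_inv, hc] at h2
    exact h2
  · rintro σ _ ⟨c, rfl⟩
    refine subset_closure ⟨σ.1 * c, ?_⟩
    rw [hji, map_mul]; group

/-- **END** -/
theorem end_false [Finite G] (hG : ∀ H : Subgroup G, H.index ≠ 2) (hn : 9 ≤ n) {t : G}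
    {ι : (⊤ : Subgroup (Perm (Fin n))) →* G} (h : Spl t ⊤ ι)
    (hA : ∀ e : Perm (Fin n), e.IsSwap → ∃ J, Good t (Sym.jj ι) (Sym.jj ι e) e J)
    (hP : ∀ f : Perm (Fin n), f.IsSwap → PumpT t (Sym.jj ι) f) : False := by
  obtain ⟨K₁, H⟩ := exists_two hn h hA hP
  exact H.false h (by omega) le_top hG

end Cfsg.Agent.OddHalf.D5.SymLab

end
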